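/-
A kernel-checkable search for the values at an involution of the characters in several principal
blocks, recording which characters the blocks share.

Main results (namespace `Cfsg.Agent.OrderM22.Recog`):
* `Spec`, `run` : extend a list of known characters by the members of one block
* `Env`, `Block` : what the characters satisfy
* `run_sound` : a `true` search forces the continuation at the actual list
-/
import Mathlib
import Cfsg.Agent.EqLemmas

set_option autoImplicit false

namespace Cfsg.Agent.OrderM22.Recog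

/-- degree, value, weight -/
abbrev Entry := ℕ × ℤ × ℤ

/-- what to check about the characters shared with the first block -/
inductive Orth where
  | free
  | shared
  | total (T : ℤ)

/-- one principal block -/
structure Spec where
  p : ℕ
  t : ℕ
  c : ℕ
  sols : List (List ℤ)
  inK : Bool
  zero : Bool
  pos : Bool
  classify : Bool
  first : Bool
  orth : Orth

/-- the setting of the search: order, centraliser, a bound for the root, vanishing rules -/
structure Par where
  n : ℕ
  C : ℕ
  R : ℕ
  mods : List (ℕ × ℕ)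

/-- the rules `pm.2 ∣ d → pm.1 ∣ v` -/
def modsOk (mods : List (ℕ × ℕ)) (d : ℕ) (v : ℤ) : Bool :=
  mods.all fun pm => !(Nat.beq (d % pm.2) 0) || decide (v % (pm.1 : ℤ) = 0)

/-- the integers of absolute value at most `B` congruent to `r` modulo `m` -/
def prog (B : ℕ) (m : ℕ) (r : ℤ) : List ℤ :=
  (List.range (2 * B / m + 1)).map fun j : ℕ => (r + (B : ℤ)) % (m : ℤ) + (m : ℤ) * (j : ℤ) - (B : ℤ)

/-- the modulus and residue for a new value -/
def resid (sp : Spec) (x : ℤ) : ℕ × ℤ :=
  if sp.inK then
    match (List.range (4 * sp.p)).find? (fun r : ℕ =>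
        decide (((x.natAbs : ℤ) - (r : ℤ)) % 4 = 0) &&
          decide ((Int.sign x * (r : ℤ) - 1) % (sp.p : ℤ) = 0)) with
    | some r => (4 * sp.p, (r : ℤ))
    | none => (4, (x.natAbs : ℤ))
  else (4, (x.natAbs : ℤ))

/-- the values of a new member of signed degree `x` -/
def newVals (sp : Spec) (P : Par) (x : ℤ) : List ℤ :=
  (prog (min (x.natAbs - 1) P.R) (resid sp x).1 (resid sp x).2).filter fun v =>
    decide (v.natAbs < x.natAbs) && decide (((x.natAbs : ℤ) - v) % 4 = 0) &&
      modsOk P.mods x.natAbs v && (!sp.inK || decide ((Int.sign x * v - 1) % (sp.p : ℤ) = 0))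

/-- the running data inside one block -/
structure St where
  ents : List Entry
  used : List ℕ
  q : ℕ
  o : ℤ
  any : Bool

/-- membership of an index -/
def memB (i : ℕ) : List ℕ → Bool
  | [] => false
  | j :: l => Nat.beq i j || memB i l

/-- the multiple `p m² C²` -/
def sqOk (sp : Spec) (P : Par) (num : ℤ) : Bool :=
  if sp.zero then decide (num = 0) else
    decide (0 ≤ num) && decide (num % ((P.C * P.C * sp.p : ℕ) : ℤ) = 0) &&
      (List.range (sp.c + 1)).any fun m =>
        decide (num = ((sp.p * (m * m) * (P.C * P.C) : ℕ) : ℤ)) && (!sp.pos || decide (0 < m))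

/-- the conditions once all members are placed -/
def finish (sp : Spec) (s : St) : Bool :=
  (match sp.orth with
    | .free => true
    | .shared => s.any
    | .total T => decide (T + s.o = 0)) &&
  (!sp.classify || s.ents.zipIdx.all fun ei => Nat.beq (ei.1.1 % sp.p) 0 || memB ei.2 s.used)

/-- place the exceptional characters: degree `d`, value `u`, sign `ε` -/
def recE (sp : Spec) (P : Par) (d : ℕ) (u ε : ℤ) (next : List Entry → ℕ → Bool) :
    ℕ → St → Bool
  | 0, s => !finish sp s || next s.ents s.q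
  | k + 1, s =>
    (s.ents.zipIdx.all fun ei =>
      !(Nat.beq ei.1.1 d && decide (ei.1.2.1 = u) && !memB ei.2 s.used) ||
        recE sp P d u ε next k
          { s with used := ei.2 :: s.used, o := s.o - ε * ei.1.2.2,
                   any := s.any || decide (ei.1.2.2 ≠ 0) }) &&
    (!(modsOk P.mods d u && decide (s.q + u.natAbs * u.natAbs ≤ P.C)) ||
      recE sp P d u ε next k
        { s with ents := s.ents ++ [(d, u, if sp.first then -ε else 0)]
                 used := s.ents.length :: s.used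
                 q := s.q + u.natAbs * u.natAbs })

/-- place the other members; `W` and `S` are the two running sums, `y` the last signed degree -/
def recA (sp : Spec) (P : Par) (y : ℤ) (next : List Entry → ℕ → Bool) :
    List ℤ → ℤ → ℤ → St → Bool
  | [], W, S, s =>
    !(decide (W.natAbs < y.natAbs) && decide ((y - W) % 4 = 0) &&
        (!sp.inK || decide (((sp.t : ℤ) * W + 1) % (sp.p : ℤ) = 0)) &&
        sqOk sp P ((sp.c : ℤ) * (S - W * W * ((P.n : ℤ) / y)))) ||
      recE sp P y.natAbs (Int.sign y * W) (Int.sign y) next sp.t s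
  | x :: xs, W, S, s =>
    (s.ents.zipIdx.all fun ei =>
      !(Nat.beq ei.1.1 x.natAbs && !memB ei.2 s.used &&
          (!sp.inK || decide ((Int.sign x * ei.1.2.1 - 1) % (sp.p : ℤ) = 0))) ||
        recA sp P y next xs (W + Int.sign x * ei.1.2.1) (S + ei.1.2.1 * ei.1.2.1 * ((P.n : ℤ) / x))
          { s with used := ei.2 :: s.used
                   o := s.o + (sp.t : ℤ) * Int.sign x * ei.1.2.2
                   any := s.any || decide (ei.1.2.2 ≠ 0) }) &&
    ((newVals sp P x).all fun v =>
      decide (P.C < s.q + v.natAbs * v.natAbs) ||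
        recA sp P y next xs (W + Int.sign x * v) (S + v * v * ((P.n : ℤ) / x))
          { s with ents := s.ents ++ [(x.natAbs, v, if sp.first then (sp.t : ℤ) * Int.sign x else 0)]
                   used := s.ents.length :: s.used
                   q := s.q + v.natAbs * v.natAbs })

/-- the degrees offered by a solution -/
def pool (t : ℕ) (X : List ℤ) : List ℕ :=
  X.map Int.natAbs ++ List.replicate t (1 + X.sum).natAbs

/-- the shared characters can be found among the offered degrees -/
def preOk (sp : Spec) (ents : List Entry) (X : List ℤ) : Bool :=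
  (!sp.classify || ents.all fun e => Nat.beq (e.1 % sp.p) 0 ||
      decide ((ents.countP fun e' => Nat.beq e'.1 e.1) ≤ (pool sp.t X).countP fun d => Nat.beq d e.1)) &&
  (match sp.orth with
    | .free => true
    | .shared => ents.any fun e => decide (e.2.2 ≠ 0) && (pool sp.t X).any fun d => Nat.beq d e.1
    | .total T => decide (T = 0) ||
        ents.any fun e => decide (e.2.2 ≠ 0) && (pool sp.t X).any fun d => Nat.beq d e.1)

/-- every completion by one block satisfies `next` -/
def run (sp : Spec) (P : Par) (next : List Entry → ℕ → Bool) (ents : List Entry) (q : ℕ) : Bool :=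
  sp.sols.all fun X => !preOk sp ents X ||
    recA sp P (1 + X.sum) next X 1 (P.n : ℤ) ⟨ents, [], q, 0, false⟩

/-! ### Soundness -/

theorem memB_iff {i : ℕ} : ∀ {l : List ℕ}, memB i l = true ↔ i ∈ l
  | [] => by simp [memB]
  | j :: l => by simp [memB, memB_iff (l := l)]

theorem mem_prog {B m : ℕ} {r v : ℤ} (hm : 0 < m) (hv : v.natAbs ≤ B) (h : (v - r) % (m : ℤ) = 0) :
    v ∈ prog B m r := by
  have hm' : (0 : ℤ) < m := by exact_mod_cast hm
  have e : (v + B) % (m : ℤ) = (r + B) % (m : ℤ) := by
    refine Int.ModEq.add_right _ ?_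
    exact (Int.modEq_iff_dvd.mpr (Int.dvd_of_emod_eq_zero h)).symm
  have h0 : 0 ≤ (v + B) / (m : ℤ) := Int.ediv_nonneg (by omega) hm'.le
  refine List.mem_map.mpr ⟨((v + B) / (m : ℤ)).toNat, List.mem_range.mpr ?_, ?_⟩
  · have h1 : (v + B) / (m : ℤ) ≤ ((2 * B : ℕ) : ℤ) / (m : ℤ) :=
      Int.ediv_le_ediv hm' (by push_cast; omega)
    rw [← Int.natCast_ediv] at h1
    omega
  · rw [Int.toNat_of_nonneg h0, ← e, Int.emod_add_mul_ediv]
    ring

theorem resid_pos (sp : Spec) (x : ℤ) (hp : 0 < sp.p) : 0 < (resid sp x).1 := by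
  unfold resid
  split
  · split <;> simp [hp]
  · simp

theorem resid_spec {sp : Spec} {x v : ℤ} (hp : Nat.Coprime 4 sp.p) (hx : x ≠ 0)
    (h4 : ((x.natAbs : ℤ) - v) % 4 = 0)
    (hK : sp.inK = true → (Int.sign x * v - 1) % (sp.p : ℤ) = 0) :
    (v - (resid sp x).2) % ((resid sp x).1 : ℤ) = 0 := by
  unfold resid
  by_cases hin : sp.inK = true
  · rw [if_pos hin]
    split
    · next r hr =>
      have h := List.find?_some hr
      simp only [Bool.and_eq_true, decide_eq_true_eq] at h
      have hv := hK hin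
      have d4 : ((4 : ℕ) : ℤ) ∣ v - (r : ℤ) := by
        rw [show v - (r : ℤ) = ((x.natAbs : ℤ) - r) - ((x.natAbs : ℤ) - v) by ring]
        exact dvd_sub (Int.dvd_of_emod_eq_zero h.1) (Int.dvd_of_emod_eq_zero h4)
      have dp : ((sp.p : ℕ) : ℤ) ∣ v - (r : ℤ) := by
        have h1 := dvd_sub (Int.dvd_of_emod_eq_zero hv) (Int.dvd_of_emod_eq_zero h.2)
        have h2 := h1.mul_left (Int.sign x)
        rcases lt_or_gt_of_ne hx with hs | hs
        · rw [Int.sign_eq_neg_one_of_neg hs] at h2
          ring_nf at h2 ⊢; exact h2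
        · rw [Int.sign_eq_one_of_pos hs] at h2
          ring_nf at h2 ⊢; exact h2
      refine Int.emod_eq_zero_of_dvd ?_
      rw [Nat.cast_mul]
      exact IsCoprime.mul_dvd (by exact_mod_cast Nat.isCoprime_iff_coprime.mpr hp) d4 dp
    · show (v - (x.natAbs : ℤ)) % ((4 : ℕ) : ℤ) = 0
      omega
  · rw [if_neg hin]
    show (v - (x.natAbs : ℤ)) % ((4 : ℕ) : ℤ) = 0
    omega

variable {ι : Type*}

/-- the characters: `ok` are the non-principal ones -/
structure Env (P : Par) (d : ι → ℕ) (u : ι → ℤ) (ok : ι → Prop) : Prop where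
  bound : ∀ s : Finset ι, (∀ χ ∈ s, ok χ) → 1 + ∑ χ ∈ s, (u χ).natAbs * (u χ).natAbs ≤ P.C
  root : P.C < (P.R + 1) * (P.R + 1)
  lt : ∀ χ, ok χ → (u χ).natAbs < d χ
  four : ∀ χ, ok χ → ((d χ : ℤ) - u χ) % 4 = 0
  mods : ∀ χ, ok χ → ∀ pm ∈ P.mods, pm.2 ∣ d χ → u χ % (pm.1 : ℤ) = 0

/-- the new weight of a member of sign `σ` -/
def wA (sp : Spec) (σ : ℤ) : ℤ := if sp.first then (sp.t : ℤ) * σ else 0

/-- the new weight of an exceptional character -/
def wE (sp : Spec) (ε : ℤ) : ℤ := if sp.first then -ε else 0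

/-- one block: members `A` with signs `σ`, exceptional `E` with sign `ε` -/
structure Block (sp : Spec) (P : Par) (d : ι → ℕ) (u : ι → ℤ) (ok : ι → Prop)
    (A E : List ι) (σ : ι → ℤ) (ε : ℤ) : Prop where
  nodup : (A ++ E).Nodup
  okA : ∀ χ ∈ A, ok χ
  okE : ∀ χ ∈ E, ok χ
  sign : ∀ χ ∈ A, σ χ = 1 ∨ σ χ = -1
  signE : ε = 1 ∨ ε = -1
  sol : (A.map fun χ => σ χ * (d χ : ℤ)) ∈ sp.sols
  lenE : E.length = sp.t
  degE : ∀ χ ∈ E, ε * (d χ : ℤ) = 1 + (A.map fun χ => σ χ * (d χ : ℤ)).sum
  valE : ∀ χ ∈ E, ε * u χ = 1 + (A.map fun χ => σ χ * u χ).sum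
  congA : sp.inK = true → ∀ χ ∈ A, (σ χ * u χ - 1) % (sp.p : ℤ) = 0
  congE : sp.inK = true →
    ((sp.t : ℤ) * (1 + (A.map fun χ => σ χ * u χ).sum) + 1) % (sp.p : ℤ) = 0
  eqn :
    let num := (sp.c : ℤ) * ((P.n : ℤ) +
      (A.map fun χ => u χ * u χ * ((P.n : ℤ) / (σ χ * (d χ : ℤ)))).sum -
      (1 + (A.map fun χ => σ χ * u χ).sum) * (1 + (A.map fun χ => σ χ * u χ).sum) *
        ((P.n : ℤ) / (1 + (A.map fun χ => σ χ * (d χ : ℤ)).sum)))
    if sp.zero then num = 0
    else ∃ m : ℕ, m ≤ sp.c ∧ num = ((sp.p * (m * m) * (P.C * P.C) : ℕ) : ℤ) ∧ (sp.pos = true → 0 < m)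
  classified : sp.classify = true → ∀ χ, ok χ → ¬ sp.p ∣ d χ → χ ∈ A ++ E

/-- the condition on the shared characters -/
def OrthOk (sp : Spec) (W : ι → ℤ) (A E : List ι) (σ : ι → ℤ) (ε : ℤ) : Prop :=
  match sp.orth with
  | .free => True
  | .shared => ∃ χ ∈ A ++ E, W χ ≠ 0
  | .total T => T + ((A.map fun χ => (sp.t : ℤ) * σ χ * W χ).sum - (E.map fun χ => ε * W χ).sum) = 0

section sound

variable (d : ι → ℕ) (u W : ι → ℤ)

/-- the entries of a list of characters -/
def entsOf (l : List ι) : List Entry := l.map fun χ => (d χ, u χ, W χ)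

/-- the first part of the column norm -/
def qOf (l : List ι) : ℕ := 1 + (l.map fun χ => (u χ).natAbs * (u χ).natAbs).sum

/-- `done` are the members placed so far -/
structure Inv (l done : List ι) (s : St) (ok : ι → Prop) : Prop where
  nodup : l.Nodup
  okl : ∀ χ ∈ l, ok χ
  ents : s.ents = entsOf d u W l
  q : s.q = qOf u l
  sub : ∀ χ ∈ done, χ ∈ l
  used : ∀ i χ, l[i]? = some χ → (i ∈ s.used ↔ χ ∈ done)

variable {d u W}

theorem entsOf_getElem {l : List ι} {i : ℕ} {χ : ι} (h : l[i]? = some χ) :
    ((d χ, u χ, W χ), i) ∈ (entsOf d u W l).zipIdx := by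
  rw [List.mk_mem_zipIdx_iff_getElem?, entsOf, List.getElem?_map, h]
  rfl

theorem qOf_le {P : Par} {ok : ι → Prop} (hE : Env P d u ok) {l : List ι} (hn : l.Nodup)
    (hok : ∀ χ ∈ l, ok χ) : qOf u l ≤ P.C := by
  classical
  have h := hE.bound l.toFinset (fun χ hχ => hok χ (List.mem_toFinset.mp hχ))
  rwa [List.sum_toFinset _ hn] at h

theorem sq_natAbs (v : ℤ) : ((v.natAbs * v.natAbs : ℕ) : ℤ) = v * v := by
  push_cast
  exact abs_mul_abs_self v

theorem sign_of_signed {s : ℤ} {n : ℕ} (hs : s = 1 ∨ s = -1) (hn : 0 < n) :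
    Int.sign (s * (n : ℤ)) = s ∧ (s * (n : ℤ)).natAbs = n := by
  have : (0 : ℤ) < n := by exact_mod_cast hn
  rcases hs with rfl | rfl
  · exact ⟨by rw [one_mul, Int.sign_eq_one_of_pos this], by simp⟩
  · exact ⟨by rw [neg_one_mul, Int.sign_neg, Int.sign_eq_one_of_pos this], by simp⟩

theorem Env.pos {P : Par} {ok : ι → Prop} (hE : Env P d u ok) {χ : ι} (h : ok χ) : 0 < d χ :=
  lt_of_le_of_lt (Nat.zero_le _) (hE.lt χ h)

theorem modsOk_of {P : Par} {ok : ι → Prop} (hE : Env P d u ok) {χ : ι} (h : ok χ) :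
    modsOk P.mods (d χ) (u χ) = true := by
  simp only [modsOk, List.all_eq_true, Bool.or_eq_true, Bool.not_eq_true', decide_eq_true_eq]
  intro pm hpm
  by_cases hd : pm.2 ∣ d χ
  · exact Or.inr (hE.mods χ h pm hpm hd)
  · left
    rw [Bool.eq_false_iff]
    exact fun e => hd (Nat.dvd_of_mod_eq_zero (Nat.eq_of_beq_eq_true e))

theorem not_used {l done : List ι} {s : St} {ok : ι → Prop} (h : Inv d u W l done s ok) {χ : ι}
    (hnd : χ ∉ done) {i : ℕ} (hi : l[i]? = some χ) : memB i s.used = false := by
  rw [Bool.eq_false_iff]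
  exact fun e => hnd ((h.used i χ hi).mp (memB_iff.mp e))

theorem Inv.share {l done : List ι} {s s' : St} {ok : ι → Prop} (h : Inv d u W l done s ok) {χ : ι}
    {i : ℕ} (hi : l[i]? = some χ) (he : s'.ents = s.ents) (hq : s'.q = s.q)
    (hu : s'.used = i :: s.used) : Inv d u W l (χ :: done) s' ok where
  nodup := h.nodup
  okl := h.okl
  ents := he.trans h.ents
  q := hq.trans h.q
  sub := fun ψ hψ => (List.mem_cons.mp hψ).elim
    (fun e => e ▸ List.mem_of_getElem? hi) (h.sub ψ)
  used := fun j ψ hj => by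
    rw [hu, List.mem_cons, List.mem_cons, h.used j ψ hj]
    refine or_congr_left ⟨fun e => ?_, fun e => ?_⟩
    · rw [e, hi] at hj; exact (Option.some.inj hj).symm
    · subst e
      obtain ⟨hj', hj2⟩ := List.getElem?_eq_some_iff.mp hj
      obtain ⟨hi', hi2⟩ := List.getElem?_eq_some_iff.mp hi
      exact (h.nodup.getElem_inj_iff).mp (hj2.trans hi2.symm)

theorem Inv.extend {l done : List ι} {s s' : St} {ok : ι → Prop} (h : Inv d u W l done s ok) {χ : ι}
    (hnl : χ ∉ l) (hok : ok χ) (he : s'.ents = s.ents ++ [(d χ, u χ, W χ)])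
    (hq : s'.q = s.q + (u χ).natAbs * (u χ).natAbs)
    (hu : s'.used = s.ents.length :: s.used) :
    Inv d u W (l ++ [χ]) (χ :: done) s' ok where
  nodup := List.nodup_append.mpr ⟨h.nodup, List.nodup_singleton χ,
    fun a ha b hb e => hnl (List.mem_singleton.mp hb ▸ e ▸ ha)⟩
  okl := fun ψ hψ => (List.mem_append.mp hψ).elim (h.okl ψ) fun e => List.mem_singleton.mp e ▸ hok
  ents := by rw [he, h.ents]; simp [entsOf]
  q := by rw [hq, h.q]; simp [qOf]; ring
  sub := fun ψ hψ => (List.mem_cons.mp hψ).elim (fun e => by subst e; simp)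
    fun e => List.mem_append.mpr (Or.inl (h.sub ψ e))
  used := fun j ψ hj => by
    rw [hu, h.ents, entsOf, List.length_map, List.mem_cons, List.mem_cons]
    rcases lt_trichotomy j l.length with hlt' | heq | hgt
    · rw [List.getElem?_append_left hlt'] at hj
      rw [h.used j ψ hj]
      refine or_congr_left ⟨fun e => absurd e hlt'.ne, fun e => ?_⟩
      exact absurd (e ▸ List.mem_of_getElem? hj) hnl
    · subst heq
      rw [List.getElem?_append_right le_rfl, Nat.sub_self] at hj
      simp at hj
      exact ⟨fun _ => Or.inl hj.symm, fun _ => Or.inl rfl⟩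
    · rw [List.getElem?_eq_none (by simp; omega)] at hj
      exact absurd hj (by simp)

/-- the indices in use point into the list -/
def UsedLt (l : List ι) (s : St) : Prop := ∀ j ∈ s.used, j < l.length

theorem recE_sound {sp : Spec} {P : Par} {ok : ι → Prop} (hE : Env P d u ok) {A E : List ι}
    {σ : ι → ℤ} {ε : ℤ} (B : Block sp P d u ok A E σ ε) {D : ℕ} {U : ℤ}
    (hD : ∀ χ ∈ E, d χ = D) (hU : ∀ χ ∈ E, u χ = U)
    (next : List Entry → ℕ → Bool) :
    ∀ (rest : List ι) (l done : List ι) (s : St), Inv d u W l done s ok → UsedLt l s →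
      (∀ χ ∈ rest, χ ∈ E) → rest.Nodup → (∀ χ ∈ rest, χ ∉ done) →
      (∀ χ, χ ∈ A ++ E → χ ∈ done ∨ χ ∈ rest) →
      (∀ χ ∈ rest, χ ∉ l → W χ = wE sp ε) →
      (∀ T, sp.orth = .total T → T + (s.o - (rest.map fun χ => ε * W χ).sum) = 0) →
      (sp.orth = .shared → s.any = true ∨ ∃ χ ∈ rest, W χ ≠ 0) →
      (sp.first = true → sp.orth = .free) →
      recE sp P D U ε next rest.length s = true →
      ∃ l' : List ι, l'.Nodup ∧ (∀ χ ∈ l', ok χ) ∧ (∀ χ ∈ l, χ ∈ l') ∧ (∀ χ ∈ A ++ E, χ ∈ l') ∧
        next (entsOf d u W l') (qOf u l') = true := by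
  intro rest
  induction rest with
  | nil =>
    intro l done s hI hlt _ _ _ hall _ hT hS _ hrun
    refine ⟨l, hI.nodup, hI.okl, fun χ h => h, fun χ h => ?_, ?_⟩
    · rcases hall χ h with h' | h'
      · exact hI.sub χ h'
      · simp at h'
    · simp only [List.length_nil, recE, Bool.or_eq_true] at hrun
      have hfin : finish sp s = true := by
        simp only [finish, Bool.and_eq_true]
        refine ⟨?_, ?_⟩
        · rcases ho : sp.orth with _ | _ | T
          · rfl
          · simpa using hS ho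
          · simpa using hT T ho
        · by_cases hc : sp.classify = true
          · simp only [hc, Bool.not_true, Bool.false_or, List.all_eq_true, Bool.or_eq_true]
            intro ei hei
            obtain ⟨e, i⟩ := ei
            rw [hI.ents, entsOf, List.mk_mem_zipIdx_iff_getElem?, List.getElem?_map, Option.map_eq_some_iff] at hei
            obtain ⟨χ, hχ, rfl⟩ := hei
            by_cases hp : sp.p ∣ d χ
            · left; rw [Nat.mod_eq_zero_of_dvd hp]; rfl
            · right
              have hm := B.classified hc χ (hI.okl χ (List.mem_of_getElem? hχ)) hp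
              rcases hall χ hm with h' | h'
              · exact memB_iff.mpr ((hI.used i χ hχ).mpr h')
              · simp at h'
          · simp [hc]
      rw [hfin, hI.ents, hI.q] at hrun
      simpa using hrun
  | cons χ rest ih =>
    intro l done s hI hlt hsub hnd hdone hall hW hT hS hfst hrun
    obtain ⟨hχr, hnd'⟩ := List.nodup_cons.mp hnd
    have hχE := hsub χ List.mem_cons_self
    have hχok := B.okE χ hχE
    have hχd : χ ∉ done := hdone χ List.mem_cons_self
    have hdone' : ∀ ψ ∈ rest, ψ ∉ χ :: done := fun ψ hψ h => (List.mem_cons.mp h).elim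
      (fun e => hχr (e ▸ hψ)) (hdone ψ (List.mem_cons_of_mem _ hψ))
    have hall' : ∀ ψ, ψ ∈ A ++ E → ψ ∈ χ :: done ∨ ψ ∈ rest := fun ψ hψ => by
      rcases hall ψ hψ with h | h
      · exact Or.inl (List.mem_cons_of_mem _ h)
      · exact (List.mem_cons.mp h).elim (fun e => Or.inl (e ▸ List.mem_cons_self)) Or.inr
    simp only [List.length_cons, recE, Bool.and_eq_true] at hrun
    by_cases hl : χ ∈ l
    · obtain ⟨i, hi⟩ := List.getElem?_of_mem hl
      have h1 := List.all_eq_true.mp hrun.1 _ (hI.ents ▸ entsOf_getElem hi)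
      rw [not_used hI hχd hi, hD χ hχE, hU χ hχE] at h1
      simp only [Bool.not_false, Bool.and_true, Nat.beq_refl, decide_true, Bool.not_true, Bool.false_or] at h1
      refine ih l (χ :: done)
        { s with used := i :: s.used, o := s.o - ε * W χ, any := s.any || decide (W χ ≠ 0) }
        (hI.share hi rfl rfl rfl) ?_
        (fun ψ hψ => hsub ψ (List.mem_cons_of_mem _ hψ)) hnd' hdone' hall'
        (fun ψ hψ => hW ψ (List.mem_cons_of_mem _ hψ)) ?_ ?_ hfst h1
      · intro j hj
        exact (List.mem_cons.mp hj).elim (fun e => e ▸ (List.getElem?_eq_some_iff.mp hi).1) (hlt j)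
      · intro T hTo
        have := hT T hTo
        simp only [List.map_cons, List.sum_cons] at this
        simp only
        linarith
      · intro hSo
        rcases hS hSo with h | ⟨ψ, hψ, hne⟩
        · left; simp [h]
        · rcases List.mem_cons.mp hψ with rfl | hψ
          · left; simp [hne]
          · exact Or.inr ⟨ψ, hψ, hne⟩
    · have hWχ := hW χ List.mem_cons_self hl
      have hI' : Inv d u W (l ++ [χ]) (χ :: done)
          { s with ents := s.ents ++ [(D, U, if sp.first then -ε else 0)]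
                   used := s.ents.length :: s.used
                   q := s.q + U.natAbs * U.natAbs } ok :=
        hI.extend hl hχok (by simp [hD χ hχE, hU χ hχE, hWχ, wE]) (by simp [hU χ hχE]) rfl
      have hq : s.q + U.natAbs * U.natAbs ≤ P.C := le_of_eq_of_le hI'.q (qOf_le hE hI'.nodup hI'.okl)
      have hm : modsOk P.mods D U = true := by
        rw [← hD χ hχE, ← hU χ hχE]; exact modsOk_of hE hχok
      have h1 := hrun.2
      simp only [hm, hq, decide_true, Bool.and_self, Bool.not_true, Bool.false_or] at h1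
      have hzero : sp.first = false → W χ = 0 := fun hf => by rw [hWχ, wE, if_neg (by simp [hf])]
      refine Exists.imp (fun l' hc => ⟨hc.1, hc.2.1,
          fun ψ hψ => hc.2.2.1 ψ (List.mem_append.mpr (Or.inl hψ)), hc.2.2.2⟩) (ih (l ++ [χ]) (χ :: done) _ hI' ?_
        (fun ψ hψ => hsub ψ (List.mem_cons_of_mem _ hψ)) hnd' hdone' hall'
        (fun ψ hψ hn => hW ψ (List.mem_cons_of_mem _ hψ) fun h => hn (List.mem_append.mpr (Or.inl h)))
        ?_ ?_ hfst h1)
      · intro j hj
        rw [List.length_append, List.length_singleton]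
        rcases List.mem_cons.mp hj with rfl | hj
        · rw [hI.ents, entsOf, List.length_map]; omega
        · exact Nat.lt_succ_of_lt (hlt j hj)
      · intro T hTo
        have := hT T hTo
        have h0 : W χ = 0 := hzero (by
          rw [Bool.eq_false_iff]; intro hf; rw [hfst hf] at hTo; simp at hTo)
        simp only [List.map_cons, List.sum_cons, h0, mul_zero, zero_add] at this
        exact this
      · intro hSo
        have h0 : W χ = 0 := hzero (by
          rw [Bool.eq_false_iff]; intro hf; rw [hfst hf] at hSo; simp at hSo)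
        rcases hS hSo with h | ⟨ψ, hψ, hne⟩
        · exact Or.inl h
        · rcases List.mem_cons.mp hψ with rfl | hψ
          · exact absurd h0 hne
          · exact Or.inr ⟨ψ, hψ, hne⟩

theorem recA_sound {sp : Spec} {P : Par} {ok : ι → Prop} (hE : Env P d u ok) (hp : Nat.Coprime 4 sp.p)
    {A E : List ι} {σ : ι → ℤ} {ε : ℤ} (B : Block sp P d u ok A E σ ε)
    (hfst : sp.first = true → sp.orth = .free) (ht : 0 < sp.t) (next : List Entry → ℕ → Bool) :
    ∀ (rest : List ι) (l done : List ι) (w S : ℤ) (s : St), Inv d u W l done s ok → UsedLt l s →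
      (∀ χ ∈ rest, χ ∈ A) → rest.Nodup → (∀ χ ∈ rest ++ E, χ ∉ done) →
      (∀ χ, χ ∈ A ++ E → χ ∈ done ∨ χ ∈ rest ++ E) →
      (∀ χ ∈ A, χ ∉ l → W χ = wA sp (σ χ)) → (∀ χ ∈ E, χ ∉ l → W χ = wE sp ε) →
      (∀ T, sp.orth = .total T → T + (s.o + (rest.map fun χ => (sp.t : ℤ) * σ χ * W χ).sum -
        (E.map fun χ => ε * W χ).sum) = 0) →
      (sp.orth = .shared → s.any = true ∨ ∃ χ ∈ rest ++ E, W χ ≠ 0) →
      w + (rest.map fun χ => σ χ * u χ).sum = 1 + (A.map fun χ => σ χ * u χ).sum →
      S + (rest.map fun χ => u χ * u χ * ((P.n : ℤ) / (σ χ * (d χ : ℤ)))).sum =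
        (P.n : ℤ) + (A.map fun χ => u χ * u χ * ((P.n : ℤ) / (σ χ * (d χ : ℤ)))).sum →
      recA sp P (1 + (A.map fun χ => σ χ * (d χ : ℤ)).sum) next
        (rest.map fun χ => σ χ * (d χ : ℤ)) w S s = true →
      ∃ l' : List ι, l'.Nodup ∧ (∀ χ ∈ l', ok χ) ∧ (∀ χ ∈ l, χ ∈ l') ∧ (∀ χ ∈ A ++ E, χ ∈ l') ∧
        next (entsOf d u W l') (qOf u l') = true := by
  intro rest
  induction rest with
  | nil =>
    intro l done w S s hI hlt _ _ hdone hall _ hWE hT hS hw hSum hrun
    simp only [List.map_nil, List.sum_nil, add_zero] at hw hSum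
    set y := 1 + (A.map fun χ => σ χ * (d χ : ℤ)).sum with hy
    set Wt := 1 + (A.map fun χ => σ χ * u χ).sum with hWt
    simp only [List.map_nil, recA, Bool.or_eq_true] at hrun
    have hdeg : ∀ χ ∈ E, d χ = y.natAbs ∧ Int.sign y = ε ∧ u χ = Int.sign y * w := fun χ hχ => by
      obtain ⟨h1, h2⟩ := sign_of_signed B.signE (hE.pos (B.okE χ hχ))
      rw [B.degE χ hχ] at h1 h2
      refine ⟨h2.symm, h1, ?_⟩
      rw [h1, hw, hWt, ← B.valE χ hχ, ← mul_assoc,
        show ε * ε = 1 by rcases B.signE with h | h <;> simp [h], one_mul]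
    obtain ⟨χ₀, hχ₀⟩ : ∃ χ₀, χ₀ ∈ E := List.exists_mem_of_length_pos (by rw [B.lenE]; exact ht)
    obtain ⟨e1, e2, e3⟩ := hdeg χ₀ hχ₀
    have hok0 := B.okE χ₀ hχ₀
    have hcond : (decide (w.natAbs < y.natAbs) && decide ((y - w) % 4 = 0) &&
        (!sp.inK || decide (((sp.t : ℤ) * w + 1) % (sp.p : ℤ) = 0)) &&
        sqOk sp P ((sp.c : ℤ) * (S - w * w * ((P.n : ℤ) / y)))) = true := by
      have hlt' := hE.lt χ₀ hok0
      have h4 := hE.four χ₀ hok0
      have hεy : ε * (d χ₀ : ℤ) = y := B.degE χ₀ hχ₀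
      have hεw : ε * u χ₀ = w := by rw [hw]; exact B.valE χ₀ hχ₀
      simp only [Bool.and_eq_true, decide_eq_true_eq]
      refine ⟨⟨⟨?_, ?_⟩, ?_⟩, ?_⟩
      · rw [← hεw, ← hεy]
        rcases B.signE with h | h <;> simp [h, hlt']
      · rw [← hεw, ← hεy]
        rcases B.signE with h | h <;> simp only [h] <;> omega
      · by_cases hin : sp.inK = true
        · simp only [hin, Bool.not_true, Bool.false_or, decide_eq_true_eq]
          rw [hw]; exact B.congE hin
        · simp [hin]
      · have heq := B.eqn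
        simp only at heq
        rw [← hWt, ← hw, ← hSum, ← hy] at heq
        unfold sqOk
        split_ifs with hz
        · simpa [hz] using heq
        · rw [if_neg hz] at heq
          obtain ⟨m, hm1, hm2, hm3⟩ := heq
          simp only [Bool.and_eq_true, decide_eq_true_eq, List.any_eq_true, List.mem_range,
            Bool.or_eq_true, Bool.not_eq_true']
          rw [hm2]
          refine ⟨⟨Int.natCast_nonneg _, ?_⟩, m, by omega, rfl, ?_⟩
          · refine Int.emod_eq_zero_of_dvd (Int.natCast_dvd_natCast.mpr ⟨m * m, by ring⟩)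
          · by_cases hpz : sp.pos = true
            · exact Or.inr (hm3 hpz)
            · exact Or.inl (by simpa using hpz)
    rw [hcond] at hrun
    simp only [Bool.not_true, Bool.false_eq_true, false_or] at hrun
    rw [← e1, ← e3, e2, ← B.lenE] at hrun
    refine recE_sound hE B (fun χ hχ => (hdeg χ hχ).1.trans e1.symm)
      (fun χ hχ => (hdeg χ hχ).2.2.trans e3.symm) next E l done s hI hlt
      (fun χ h => h) (List.nodup_append.mp B.nodup).2.1 (by simpa using hdone) (by simpa using hall) hWE
      ?_ ?_ hfst hrun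
    · intro T hTo; simpa using hT T hTo
    · intro hSo; simpa using hS hSo
  | cons χ rest ih =>
    intro l done w S s hI hlt hsub hnd hdone hall hWA hWE hT hS hw hSum hrun
    obtain ⟨hχr, hnd'⟩ := List.nodup_cons.mp hnd
    have hχA := hsub χ List.mem_cons_self
    have hok := B.okA χ hχA
    obtain ⟨hsg, habs⟩ := sign_of_signed (B.sign χ hχA) (hE.pos hok)
    have hχd : χ ∉ done := hdone χ (by simp)
    have hχE : χ ∉ E := fun h => (List.nodup_append.mp B.nodup).2.2 χ hχA χ h rfl
    have hdone' : ∀ ψ ∈ rest ++ E, ψ ∉ χ :: done := fun ψ hψ h => by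
      rcases List.mem_cons.mp h with rfl | h
      · rcases List.mem_append.mp hψ with h' | h'
        exacts [hχr h', hχE h']
      · exact hdone ψ (List.mem_cons_of_mem _ hψ) h
    have hall' : ∀ ψ, ψ ∈ A ++ E → ψ ∈ χ :: done ∨ ψ ∈ rest ++ E := fun ψ hψ => by
      rcases hall ψ hψ with h | h
      · exact Or.inl (List.mem_cons_of_mem _ h)
      · rw [List.cons_append] at h
        exact (List.mem_cons.mp h).elim (fun e => Or.inl (e ▸ List.mem_cons_self)) Or.inr
    simp only [List.map_cons, recA, Bool.and_eq_true] at hrun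
    simp only [List.map_cons, List.sum_cons] at hw hSum
    have hK : sp.inK = true → (Int.sign (σ χ * (d χ : ℤ)) * u χ - 1) % (sp.p : ℤ) = 0 := fun h => by
      rw [hsg]; exact B.congA h χ hχA
    by_cases hl : χ ∈ l
    · obtain ⟨i, hi⟩ := List.getElem?_of_mem hl
      have h1 := List.all_eq_true.mp hrun.1 _ (hI.ents ▸ entsOf_getElem hi)
      have hcond : (Nat.beq (d χ) (σ χ * (d χ : ℤ)).natAbs && !memB i s.used &&
          (!sp.inK || decide ((σ χ * u χ - 1) % (sp.p : ℤ) = 0))) = true := by
        rw [not_used hI hχd hi, habs]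
        by_cases hin : sp.inK = true
        · simp only [hin, decide_eq_true (B.congA hin χ hχA)]; simp
        · simp [hin]
      simp only [hsg] at h1
      rw [hcond] at h1
      simp only [Bool.not_true, Bool.false_or] at h1
      refine ih l (χ :: done) _ _
        { s with used := i :: s.used, o := s.o + (sp.t : ℤ) * σ χ * W χ, any := s.any || decide (W χ ≠ 0) }
        (hI.share hi rfl rfl rfl) ?_
        (fun ψ hψ => hsub ψ (List.mem_cons_of_mem _ hψ)) hnd' hdone' hall' hWA hWE ?_ ?_ ?_ ?_ h1
      · intro j hj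
        exact (List.mem_cons.mp hj).elim (fun e => e ▸ (List.getElem?_eq_some_iff.mp hi).1) (hlt j)
      · intro T hTo
        have := hT T hTo
        simp only [List.map_cons, List.sum_cons] at this
        simp only
        linarith
      · intro hSo
        rcases hS hSo with h | ⟨ψ, hψ, hne⟩
        · left; simp [h]
        · rw [List.cons_append] at hψ
          rcases List.mem_cons.mp hψ with rfl | hψ
          · left; simp [hne]
          · exact Or.inr ⟨ψ, hψ, hne⟩
      · linarith
      · linarith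
    · have hWχ := hWA χ hχA hl
      have hI' : Inv d u W (l ++ [χ]) (χ :: done)
          { s with ents := s.ents ++ [((σ χ * (d χ : ℤ)).natAbs, u χ,
                     if sp.first then (sp.t : ℤ) * Int.sign (σ χ * (d χ : ℤ)) else 0)]
                   used := s.ents.length :: s.used
                   q := s.q + (u χ).natAbs * (u χ).natAbs } ok :=
        hI.extend hl hok (by simp [habs, hsg, hWχ, wA]) rfl rfl
      have hq : s.q + (u χ).natAbs * (u χ).natAbs ≤ P.C := le_of_eq_of_le hI'.q (qOf_le hE hI'.nodup hI'.okl)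
      have hv : u χ ∈ newVals sp P (σ χ * (d χ : ℤ)) := by
        have hb := hE.lt χ hok
        have h4 := hE.four χ hok
        refine List.mem_filter.mpr ⟨?_, ?_⟩
        · refine mem_prog (resid_pos sp _ (Nat.pos_of_ne_zero fun h0 => by simp [h0] at hp)) ?_
            (resid_spec hp ?_ (by rw [habs]; exact h4) hK)
          · rw [habs]
            refine le_min (by omega) ?_
            by_contra hlt'
            have h2 : (P.R + 1) * (P.R + 1) ≤ (u χ).natAbs * (u χ).natAbs :=
              Nat.mul_le_mul (by omega) (by omega)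
            have := hE.root
            omega
          · intro h0
            have := congrArg Int.natAbs h0
            rw [habs] at this
            have := hE.pos hok
            simp at *
            omega
        · rw [habs]
          simp only [Bool.and_eq_true, Bool.or_eq_true, decide_eq_true_eq, Bool.not_eq_true']
          refine ⟨⟨⟨hb, h4⟩, modsOk_of hE hok⟩, ?_⟩
          by_cases hin : sp.inK = true
          · exact Or.inr (hK hin)
          · exact Or.inl (by simpa using hin)
      have h1 := List.all_eq_true.mp hrun.2 _ hv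
      simp only [Bool.or_eq_true, decide_eq_true_eq] at h1
      have h2 := h1.resolve_left (by omega)
      rw [hsg] at h2
      have hzero : sp.orth ≠ .free → W χ = 0 := fun hne => by
        rw [hWχ, wA, if_neg (fun hf => hne (hfst hf))]
      refine Exists.imp (fun l' hc => ⟨hc.1, hc.2.1,
          fun ψ hψ => hc.2.2.1 ψ (List.mem_append.mpr (Or.inl hψ)), hc.2.2.2⟩) (ih (l ++ [χ]) (χ :: done) _ _ _ (by rw [hsg] at hI'; exact hI') ?_
        (fun ψ hψ => hsub ψ (List.mem_cons_of_mem _ hψ)) hnd' hdone' hall'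
        (fun ψ hψ hn => hWA ψ hψ fun h => hn (List.mem_append.mpr (Or.inl h)))
        (fun ψ hψ hn => hWE ψ hψ fun h => hn (List.mem_append.mpr (Or.inl h))) ?_ ?_ ?_ ?_ h2)
      · intro j hj
        rw [List.length_append, List.length_singleton]
        rcases List.mem_cons.mp hj with rfl | hj
        · rw [hI.ents, entsOf, List.length_map]; omega
        · exact Nat.lt_succ_of_lt (hlt j hj)
      · intro T hTo
        have := hT T hTo
        simp only [List.map_cons, List.sum_cons, hzero (by rw [hTo]; simp), mul_zero, zero_add] at this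
        exact this
      · intro hSo
        rcases hS hSo with h | ⟨ψ, hψ, hne⟩
        · exact Or.inl h
        · rw [List.cons_append] at hψ
          rcases List.mem_cons.mp hψ with rfl | hψ
          · exact absurd (hzero (by rw [hSo]; simp)) hne
          · exact Or.inr ⟨ψ, hψ, hne⟩
      · linarith
      · linarith

theorem pool_eq {sp : Spec} {P : Par} {ok : ι → Prop} (hE : Env P d u ok) {A E : List ι} {σ : ι → ℤ}
    {ε : ℤ} (B : Block sp P d u ok A E σ ε) :
    pool sp.t (A.map fun χ => σ χ * (d χ : ℤ)) = (A ++ E).map d := by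
  rw [pool, List.map_append, List.map_map]
  congr 1
  · exact List.map_congr_left fun χ hχ => (sign_of_signed (B.sign χ hχ) (hE.pos (B.okA χ hχ))).2
  · refine (List.eq_replicate_iff.mpr ⟨by rw [List.length_map, B.lenE], fun n hn => ?_⟩).symm
    obtain ⟨χ, hχ, rfl⟩ := List.mem_map.mp hn
    rw [← B.degE χ hχ]
    exact (sign_of_signed B.signE (hE.pos (B.okE χ hχ))).2.symm

theorem preOk_of {sp : Spec} {P : Par} {ok : ι → Prop} (hE : Env P d u ok) {A E : List ι} {σ : ι → ℤ}
    {ε : ℤ} (B : Block sp P d u ok A E σ ε) {l : List ι} (hn : l.Nodup) (hok : ∀ χ ∈ l, ok χ)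
    (hcov : sp.orth ≠ .free → ∀ χ ∈ A ++ E, W χ ≠ 0 → χ ∈ l) (hO : OrthOk sp W A E σ ε) :
    preOk sp (entsOf d u W l) (A.map fun χ => σ χ * (d χ : ℤ)) = true := by
  classical
  rw [preOk, pool_eq hE B, Bool.and_eq_true]
  refine ⟨?_, ?_⟩
  · by_cases hc : sp.classify = true
    · simp only [hc, Bool.not_true, Bool.false_or, List.all_eq_true, entsOf, List.mem_map,
        forall_exists_index, and_imp, Bool.or_eq_true]
      intro e χ hχ rfl
      by_cases hp : sp.p ∣ d χ
      · left; rw [Nat.mod_eq_zero_of_dvd hp]; rfl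
      · right
        refine decide_eq_true ?_
        simp only [List.countP_map, Function.comp_def]
        rw [List.countP_eq_length_filter, List.countP_eq_length_filter]
        refine (List.subperm_of_subset (hn.filter _) fun ψ hψ => ?_).length_le
        obtain ⟨h1, h2⟩ := List.mem_filter.mp hψ
        refine List.mem_filter.mpr ⟨B.classified hc ψ (hok ψ h1) ?_, h2⟩
        rw [Nat.eq_of_beq_eq_true h2]; exact hp
    · simp [hc]
  · have key : (∃ χ ∈ A ++ E, W χ ≠ 0) → sp.orth ≠ .free →
        ((entsOf d u W l).any fun e => decide (e.2.2 ≠ 0) &&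
          ((A ++ E).map d).any fun n => Nat.beq n e.1) = true := by
      rintro ⟨χ, hχ, hne⟩ hf
      refine List.any_eq_true.mpr ⟨(d χ, u χ, W χ), List.mem_map.mpr ⟨χ, hcov hf χ hχ hne, rfl⟩, ?_⟩
      simp only [Bool.and_eq_true, decide_eq_true_eq, List.any_eq_true]
      exact ⟨hne, d χ, List.mem_map_of_mem hχ, Nat.beq_refl _⟩
    rcases ho : sp.orth with _ | _ | T
    · rfl
    · rw [OrthOk, ho] at hO
      exact key hO (by rw [ho]; simp)
    · rw [OrthOk, ho] at hO
      by_cases hT : T = 0
      · simp [hT]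
      simp only [Bool.or_eq_true, decide_eq_true_eq]
      right
      refine key ?_ (by rw [ho]; simp)
      by_contra! hz
      apply hT
      have e1 : (A.map fun χ => (sp.t : ℤ) * σ χ * W χ).sum = 0 := List.sum_eq_zero fun z hz' => by
        obtain ⟨χ, hχ, rfl⟩ := List.mem_map.mp hz'
        rw [hz χ (List.mem_append.mpr (Or.inl hχ)), mul_zero]
      have e2 : (E.map fun χ => ε * W χ).sum = 0 := List.sum_eq_zero fun z hz' => by
        obtain ⟨χ, hχ, rfl⟩ := List.mem_map.mp hz'
        rw [hz χ (List.mem_append.mpr (Or.inr hχ)), mul_zero]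
      rw [e1, e2] at hO
      simpa using hO

/-- **Soundness of one step.** -/
theorem run_sound {sp : Spec} {P : Par} {ok : ι → Prop} (hE : Env P d u ok) (hp : Nat.Coprime 4 sp.p)
    {A E : List ι} {σ : ι → ℤ} {ε : ℤ} (B : Block sp P d u ok A E σ ε)
    (hfst : sp.first = true → sp.orth = .free) (ht : 0 < sp.t) (hO : OrthOk sp W A E σ ε)
    {l : List ι} (hn : l.Nodup) (hok : ∀ χ ∈ l, ok χ)
    (hWA : ∀ χ ∈ A, χ ∉ l → W χ = wA sp (σ χ)) (hWE : ∀ χ ∈ E, χ ∉ l → W χ = wE sp ε)
    {next : List Entry → ℕ → Bool} (h : run sp P next (entsOf d u W l) (qOf u l) = true) :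
    ∃ l' : List ι, l'.Nodup ∧ (∀ χ ∈ l', ok χ) ∧ (∀ χ ∈ l, χ ∈ l') ∧ (∀ χ ∈ A ++ E, χ ∈ l') ∧
      next (entsOf d u W l') (qOf u l') = true := by
  have h1 := List.all_eq_true.mp h _ B.sol
  have hcov : sp.orth ≠ .free → ∀ χ ∈ A ++ E, W χ ≠ 0 → χ ∈ l := fun hf χ hχ hne => by
    by_contra hl
    have hf' : ¬ sp.first = true := fun e => hf (hfst e)
    rcases List.mem_append.mp hχ with hA | hA
    · exact hne (by rw [hWA χ hA hl, wA, if_neg hf'])
    · exact hne (by rw [hWE χ hA hl, wE, if_neg hf'])
  rw [preOk_of hE B hn hok hcov hO, Bool.not_true, Bool.false_or] at h1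
  refine recA_sound hE hp B hfst ht next A l [] 1 (P.n : ℤ) _ ⟨hn, hok, rfl, rfl, by simp, by simp⟩
    (by simp [UsedLt]) (fun χ h => h) (List.nodup_append.mp B.nodup).1 (by simp) (fun χ h => Or.inr h)
    hWA hWE ?_ ?_ rfl rfl h1
  · intro T hT
    rw [OrthOk, hT] at hO
    simp only [zero_add]
    linarith
  · intro hS
    rw [OrthOk, hS] at hO
    exact Or.inr hO

end sound

end Cfsg.Agent.OrderM22.Recog
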