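/-
The searches used to determine the centralisers at the primes 5 and 7.

Main results (namespace `Cfsg.Agent.OrderM22.Recog`):
* `sols73` ... `sols115five` : the lists of degrees
* `hList` : the possible orders of centralisers of involutions
* `coverBool` : the lists are complete
* `check73`, `check76`, `checkA1` ... `checkBpos` : the searches
-/
import Cfsg.Agent.Lib.OrderM22.Recog.Engine
import Cfsg.Agent.Lib.SmallOrders.BlockDegrees.ValueCheck

set_option autoImplicit false
set_option maxRecDepth 100000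

namespace Cfsg.Agent.OrderM22.Recog

def sols73 : List (List ℤ) :=
  [[-132, 176],
   [120, -132],
   [99, -160],
   [99, -132],
   [99, 120],
   [-55, 120],
   [-55, 99],
   [22, -55],
   [22, 22],
   [-6, -160],
   [-6, -55],
   [-6, -6]]

def sols73five : List (List ℤ) :=
  [[99, -160],
   [99, 120],
   [-55, 120],
   [-55, 99]]

def sols76 : List (List ℤ) :=
  [[-132, -160, -160, 176, 330],
   [-132, -160, -160, 176, 176],
   [120, -132, 176, 330, -440],
   [120, -132, 176, 176, -440],
   [120, -132, -132, -132, 330],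
   [120, -132, -132, -132, 176],
   [99, -160, -160, 176, 176],
   [99, -132, 176, 176, -440],
   [99, -132, -160, 176, 176],
   [99, -132, -160, -160, 330],
   [99, -132, -160, -160, 176],
   [99, -132, -132, -132, 176],
   [99, 120, 176, 176, -440],
   [99, 120, -132, 330, -440],
   [99, 120, -132, 176, -440],
   [99, 120, -132, 176, 176],
   [99, 120, -132, -132, 176],
   [99, 120, -132, -132, -132],
   [99, 99, -160, -160, 176],
   [99, 99, 120, 176, -440],
   [99, 99, 120, -132, -132],
   [99, 99, 99, -160, -160],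
   [99, 99, 99, 120, -440],
   [-55, -160, -160, 176, 330],
   [-55, -160, -160, 176, 176],
   [-55, -132, 176, 330, -440],
   [-55, -132, -160, 176, 330],
   [-55, -132, -160, -160, 330],
   [-55, -132, -160, -160, 176],
   [-55, -132, -132, -132, 330],
   [-55, 120, 176, 330, -440],
   [-55, 120, 176, 176, -440],
   [-55, 120, -132, 330, -440],
   [-55, 120, -132, 176, -440],
   [-55, 120, -132, 176, 330],
   [-55, 120, -132, -132, 330],
   [-55, 120, -132, -132, 176],
   [-55, 120, -132, -132, -132],
   [-55, 99, -160, -160, 330],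
   [-55, 99, -160, -160, 176],
   [-55, 99, 120, 330, -440],
   [-55, 99, 120, 176, -440],
   [-55, 99, 120, -132, -132],
   [-55, 99, 99, 176, -440],
   [-55, 99, 99, -160, 176],
   [-55, 99, 99, -160, -160],
   [-55, 99, 99, -132, -132],
   [-55, 99, 99, 120, -440],
   [-55, 99, 99, 120, 176],
   [-55, 99, 99, 120, -132],
   [-55, -55, -160, -160, 330],
   [-55, -55, 120, 330, -440],
   [-55, -55, 120, -132, 176],
   [-55, -55, 99, 330, -440],
   [-55, -55, 99, -160, 330],
   [-55, -55, 99, -160, -160],
   [-55, -55, 99, 120, -440],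
   [-55, -55, 99, 120, 330],
   [-55, -55, 99, 120, -132],
   [-55, -55, -55, -132, 176],
   [-55, -55, -55, 120, 176],
   [-55, -55, -55, 120, -132],
   [-55, -55, -55, 99, 120],
   [-55, -55, -55, -55, 120],
   [-55, -55, -55, -55, 99],
   [22, -160, -160, 176, 176],
   [22, -132, -160, -160, 330],
   [22, 120, 176, 176, -440],
   [22, 120, -132, 330, -440],
   [22, 120, -132, -132, 176],
   [22, 99, -160, -160, 330],
   [22, 99, -160, -160, 176],
   [22, 99, -132, 330, -440],
   [22, 99, -132, -160, 330],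
   [22, 99, -132, -160, -160],
   [22, 99, 120, 330, -440],
   [22, 99, 120, 176, -440],
   [22, 99, 120, -132, -440],
   [22, 99, 120, -132, 330],
   [22, 99, 120, -132, -132],
   [22, 99, 99, -160, -160],
   [22, 99, 99, 120, -440],
   [22, 99, 99, 99, -440],
   [22, 99, 99, 99, -160],
   [22, 99, 99, 99, 120],
   [22, -55, 176, 176, -440],
   [22, -55, -160, 176, 176],
   [22, -55, -160, -160, 330],
   [22, -55, -160, -160, 176],
   [22, -55, -132, -132, 176],
   [22, -55, 120, 330, -440],
   [22, -55, 120, 176, -440],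
   [22, -55, 120, 176, 176],
   [22, -55, 120, -132, 176],
   [22, -55, 120, -132, -132],
   [22, -55, 99, 120, -132],
   [22, -55, -55, 120, -132],
   [22, -55, -55, 99, -132],
   [22, -55, -55, 99, 120],
   [22, -55, -55, -55, 120],
   [22, 22, -160, -160, 330],
   [22, 22, -160, -160, 176],
   [22, 22, 120, 330, -440],
   [22, 22, 120, 176, -440],
   [22, 22, 120, -132, -132],
   [22, 22, 99, 176, -440],
   [22, 22, 99, -160, 176],
   [22, 22, 99, -160, -160],
   [22, 22, 99, -132, -132],
   [22, 22, 99, 120, -440],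
   [22, 22, 99, 120, 176],
   [22, 22, 99, 120, -132],
   [22, 22, -55, 330, -440],
   [22, 22, -55, -160, 330],
   [22, 22, -55, -160, -160],
   [22, 22, -55, 120, -440],
   [22, 22, -55, 120, 330],
   [22, 22, -55, 120, -132],
   [22, 22, -55, -55, 120],
   [22, 22, -55, -55, -55],
   [22, 22, 22, 120, -132],
   [22, 22, 22, -55, -132],
   [22, 22, 22, -55, 120]]

def sols52 : List (List ℤ) :=
  [[21],
   [11]]

def sols54three : List (List ℤ) :=
  [[66, 176, -264],
   [66, 66, -154],
   [-44, -154, 176],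
   [-44, -44, 66],
   [21, 231, -264],
   [21, 176, -264],
   [21, -154, 176],
   [21, 66, -264],
   [21, 66, 176],
   [21, 66, -154],
   [21, 66, 66],
   [21, -44, 176],
   [21, -44, -154],
   [21, -44, 66],
   [21, -44, -44],
   [16, 231, -264],
   [16, 16, -264],
   [16, 16, 231],
   [16, 16, -44],
   [11, 231, -264],
   [11, 21, -264],
   [11, 21, 231],
   [11, 21, -44],
   [11, 16, -44],
   [11, 16, 16],
   [11, 11, -44],
   [11, 11, 21]]

def sols54two : List (List ℤ) :=
  [[176, 231, -264],
   [-154, -264, 396],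
   [-144, -264, 396],
   [-144, 231, -264],
   [-144, 176, -264],
   [-144, 176, 231],
   [-144, -154, 396],
   [-144, -154, 231],
   [-144, -144, 231],
   [126, 126, -264],
   [126, 126, -154],
   [-99, -154, 396],
   [-99, -154, 231],
   [-99, -144, 396],
   [-99, -144, 231],
   [-99, -144, 176],
   [-99, -144, -154],
   [-99, 126, -154],
   [-99, 126, 126],
   [-99, -99, 176],
   [66, 176, -264],
   [66, -154, 231],
   [66, -144, 231],
   [66, -144, 176],
   [66, -144, -154],
   [66, -99, 176],
   [66, -99, -144],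
   [66, 66, -154],
   [66, 66, -144],
   [56, -144, 231],
   [56, -144, -144],
   [56, 66, -144],
   [-44, -154, 176],
   [-44, -144, 231],
   [-44, -144, 176],
   [-44, -99, 126],
   [-44, -44, 231],
   [-44, -44, -144],
   [-44, -44, 66],
   [21, -264, 396],
   [21, 231, -264],
   [21, 176, -264],
   [21, -154, 396],
   [21, -154, -264],
   [21, -154, 231],
   [21, -154, 176],
   [21, -99, 231],
   [21, -99, 176],
   [21, -99, -154],
   [21, -99, -99],
   [21, 66, -264],
   [21, 66, 176],
   [21, 66, -154],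
   [21, 66, -144],
   [21, 66, -99],
   [21, 66, 66],
   [21, 56, -144],
   [21, 56, -99],
   [21, 56, 66],
   [21, -44, 176],
   [21, -44, -154],
   [21, -44, 66],
   [21, -44, -44],
   [21, 21, -99],
   [21, 21, 56],
   [16, 231, -264],
   [16, 126, -154],
   [16, -99, 126],
   [16, 66, -99],
   [16, -44, 126],
   [16, -44, -99],
   [16, 16, -264],
   [16, 16, 231],
   [16, 16, -99],
   [16, 16, 66],
   [16, 16, -44],
   [11, -264, 396],
   [11, 231, -264],
   [11, -144, 396],
   [11, -144, -264],
   [11, -144, 231],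
   [11, -144, 176],
   [11, 126, -264],
   [11, 126, -154],
   [11, 126, 126],
   [11, -99, 231],
   [11, -99, -144],
   [11, 66, -144],
   [11, 66, -99],
   [11, 66, 66],
   [11, -44, 176],
   [11, -44, -144],
   [11, 21, -264],
   [11, 21, 231],
   [11, 21, -99],
   [11, 21, 66],
   [11, 21, -44],
   [11, 16, -154],
   [11, 16, 126],
   [11, 16, -44],
   [11, 16, 16],
   [11, 11, -44],
   [11, 11, 21]]

def sols54one : List (List ℤ) :=
  [[176, 231, -264],
   [-154, -264, 396],
   [-144, -264, 396],
   [-144, 231, -264],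
   [-144, 176, -264],
   [-144, 176, 231],
   [-144, -154, 396],
   [-144, -154, 231],
   [-144, -144, 231],
   [126, 126, -264],
   [126, 126, -154],
   [-99, -154, 396],
   [-99, -154, 231],
   [-99, -144, 396],
   [-99, -144, 231],
   [-99, -144, 176],
   [-99, -144, -154],
   [-99, 126, -154],
   [-99, 126, 126],
   [-99, -99, 176],
   [66, 176, -264],
   [66, -154, 231],
   [66, -144, 231],
   [66, -144, 176],
   [66, -144, -154],
   [66, -99, 176],
   [66, -99, -144],
   [66, 66, -154],
   [66, 66, -144],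
   [56, -144, 231],
   [56, -144, -144],
   [56, 66, -144],
   [-44, -154, 176],
   [-44, -144, 231],
   [-44, -144, 176],
   [-44, -99, 126],
   [-44, -44, 231],
   [-44, -44, -144],
   [-44, -44, 66],
   [21, -264, 396],
   [21, 231, -264],
   [21, 176, -264],
   [21, -154, 396],
   [21, -154, -264],
   [21, -154, 231],
   [21, -154, 176],
   [21, 126, -154],
   [21, -99, 231],
   [21, -99, 176],
   [21, -99, -154],
   [21, -99, -99],
   [21, 66, -264],
   [21, 66, 176],
   [21, 66, -154],
   [21, 66, -144],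
   [21, 66, -99],
   [21, 66, 66],
   [21, 56, -144],
   [21, 56, -99],
   [21, 56, 66],
   [21, -44, 176],
   [21, -44, -154],
   [21, -44, 66],
   [21, -44, -44],
   [21, 21, -99],
   [21, 21, 56],
   [16, 231, -264],
   [16, 126, -154],
   [16, -99, 126],
   [16, 66, -99],
   [16, -44, 126],
   [16, -44, -99],
   [16, 21, -44],
   [16, 16, -264],
   [16, 16, 231],
   [16, 16, -99],
   [16, 16, 66],
   [16, 16, -44],
   [11, -264, 396],
   [11, 231, -264],
   [11, -144, 396],
   [11, -144, -264],
   [11, -144, 231],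
   [11, -144, 176],
   [11, 126, -264],
   [11, 126, -154],
   [11, 126, -144],
   [11, 126, 126],
   [11, -99, 231],
   [11, -99, -144],
   [11, 66, -144],
   [11, 66, -99],
   [11, 66, 66],
   [11, -44, 176],
   [11, -44, -144],
   [11, 21, -264],
   [11, 21, 231],
   [11, 21, -99],
   [11, 21, 66],
   [11, 21, -44],
   [11, 16, -154],
   [11, 16, 126],
   [11, 16, -44],
   [11, 16, 16],
   [11, 11, -44],
   [11, 11, 21],
   [6, 126, -154],
   [6, 126, -144],
   [6, 21, -154],
   [6, 21, 126],
   [6, 21, -44],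
   [6, 16, -44],
   [6, 16, 21],
   [6, 11, -144],
   [6, 11, 126]]

def sols115 : List (List ℤ) :=
  [[-252, 320, 320, -384],
   [210, -252, 320, -384],
   [144, 210, 210, -560],
   [56, -120, -252, 320],
   [56, -120, 210, -252],
   [56, 56, 144, -252],
   [45, 210, 320, -384],
   [45, 144, 320, -384],
   [45, 144, 210, -560],
   [45, 144, 210, -384],
   [45, -120, -252, 320],
   [45, -120, 144, 210],
   [45, -120, -120, 320],
   [45, -120, -120, 210],
   [45, 56, 210, -384],
   [45, 56, 210, -252],
   [45, 56, 144, -252],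
   [45, 56, -120, 210],
   [45, 56, -120, 144],
   [45, 45, 56, -252],
   [45, 45, 45, 144],
   [45, 45, 45, -120],
   [45, 45, 45, 56],
   [-32, 210, 210, -384],
   [-32, 144, 144, -252],
   [-32, 45, 210, -384],
   [-32, 45, 210, -252],
   [-32, 45, 56, 210],
   [-32, 45, 56, 56],
   [-32, -32, -252, 320],
   [-32, -32, 210, -252],
   [-32, -32, 45, 210],
   [-32, -32, 45, 144],
   [-21, 210, 320, -384],
   [-21, 210, 210, -384],
   [-21, 144, 320, -384],
   [-21, 144, -252, 320],
   [-21, 144, 144, -252],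
   [-21, -120, -252, 320],
   [-21, -120, 210, 210],
   [-21, -120, -120, 320],
   [-21, 56, 320, -384],
   [-21, 56, 210, -252],
   [-21, 56, 144, -252],
   [-21, 56, -120, -252],
   [-21, 56, -120, 210],
   [-21, 56, -120, 144],
   [-21, 56, 56, -252],
   [-21, 56, 56, -120],
   [-21, 45, 45, 210],
   [-21, 45, 45, 56],
   [-21, -32, -252, 320],
   [-21, -32, 144, -252],
   [-21, -32, -120, 144],
   [-21, -32, 56, 56],
   [-21, -32, -32, -252],
   [-21, -32, -32, 210],
   [-21, -32, -32, 144],
   [-21, -32, -32, 56],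
   [-21, -21, 320, -384],
   [-21, -21, 56, -120],
   [-21, -21, 45, 56],
   [-21, -21, -32, 45],
   [-21, -21, -32, -32],
   [-21, -21, -21, 56],
   [12, 56, 320, -384],
   [12, 56, 210, -384],
   [12, 56, 56, -120],
   [12, 45, 320, -384],
   [12, 45, -252, 320],
   [12, 45, 210, -252],
   [12, 45, 56, -120],
   [12, -32, -120, 144],
   [12, -32, -32, 56],
   [12, -32, -32, 45],
   [12, -21, 320, -384],
   [12, -21, -252, 320],
   [12, -21, 144, 144],
   [12, -21, -120, 320],
   [12, -21, -120, 144],
   [12, -21, 56, -384],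
   [12, -21, 56, 144],
   [12, -21, 56, -120],
   [12, -21, -32, 320],
   [12, -21, -32, -120],
   [12, -21, -32, 56],
   [12, -21, -32, 45],
   [12, -21, -32, -32],
   [12, -21, -21, 45],
   [12, 12, 45, 210],
   [12, 12, 45, 56],
   [12, 12, -21, 56],
   [12, 12, -21, -32],
   [12, 12, 12, -32],
   [12, 12, 12, -21],
   [-10, 144, 144, -384],
   [-10, -120, -120, 144],
   [-10, 56, 210, -252],
   [-10, 45, 320, -384],
   [-10, 45, 210, -252],
   [-10, 45, 144, -252],
   [-10, 45, -120, -252],
   [-10, 45, -120, 210],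
   [-10, 45, -120, 144],
   [-10, 45, 56, -252],
   [-10, 45, 56, -120],
   [-10, 45, 45, 45],
   [-10, -32, 320, -384],
   [-10, -32, 56, -120],
   [-10, -32, 45, 56],
   [-10, -32, -32, 45],
   [-10, -32, -32, -32],
   [-10, -21, 210, -252],
   [-10, -21, -120, 210],
   [-10, -21, -120, 144],
   [-10, -21, 45, -120],
   [-10, -21, 45, 45],
   [-10, -21, -32, 56],
   [-10, -21, -21, 56],
   [-10, -21, -21, 45],
   [-10, -21, -21, -21],
   [-10, 12, 144, -252],
   [-10, 12, 45, -384],
   [-10, 12, 45, 144],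
   [-10, 12, 45, -120],
   [-10, 12, -32, 45],
   [-10, 12, -21, 210],
   [-10, 12, -21, 144],
   [-10, 12, 12, -120],
   [-10, 12, 12, 45],
   [-10, 12, 12, -21],
   [-10, -10, -120, 144],
   [-10, -10, -32, 56],
   [-10, -10, -32, 45],
   [-10, -10, -21, 320],
   [-10, -10, -21, -120],
   [-10, -10, -21, 56],
   [-10, -10, -21, 45],
   [-10, -10, -21, -32],
   [-10, -10, 12, -21],
   [-10, -10, 12, 12],
   [-10, -10, -10, 45]]

def sols115five : List (List ℤ) :=
  [[144, 210, 210, -560],
   [45, 144, 320, -384],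
   [45, 144, 210, -560],
   [45, 144, 210, -384],
   [45, -120, 144, 210],
   [45, -120, -120, 320],
   [45, -120, -120, 210],
   [45, 56, -120, 144],
   [45, 45, 45, 144],
   [45, 45, 45, -120],
   [-21, 210, 320, -384],
   [-21, 210, 210, -384],
   [-21, 144, 320, -384],
   [-21, -120, 210, 210],
   [-21, -120, -120, 320],
   [-21, 56, -120, 210],
   [-21, 56, -120, 144],
   [-21, 45, 45, 210],
   [-21, 45, 45, 56],
   [-21, -21, 320, -384],
   [-21, -21, 56, -120],
   [-21, -21, 45, 56],
   [-21, -21, -21, 56],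
   [-10, 144, 144, -384],
   [-10, -120, -120, 144],
   [-10, 45, -120, 210],
   [-10, 45, -120, 144],
   [-10, 45, 45, 45],
   [-10, -21, -120, 210],
   [-10, -21, -120, 144],
   [-10, -21, 45, -120],
   [-10, -21, 45, 45],
   [-10, -21, -21, 56],
   [-10, -21, -21, 45],
   [-10, -10, -120, 144],
   [-10, -10, -21, 320],
   [-10, -10, -21, -120],
   [-10, -10, -21, 56],
   [-10, -10, -21, 45],
   [-10, -10, -10, 45]]

/-- a degree allowed by the prime 11, by the prime 5 with `five`, and outside `avoid` -/
def okB (five : Bool) (avoid : List ℕ) (d : ℕ) : Bool :=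
  [0, 1, 5, 6, 10].elem (d % 11) && (!five || [0, 1, 4].elem (d % 5)) &&
    avoid.all fun v => !Nat.beq (d % v) 0

/-- every solution of the degree equation with allowed degrees is in `sols` -/
def coverBool (p e lo : ℕ) (five : Bool) (avoid : List ℕ) (sols : List (List ℤ)) : Bool :=
  (SmallOrders.BlockDegrees.degSols 443520 p e ((p - 1) / e) lo
      ((SmallOrders.BlockDegrees.degCand 443520 p lo 666).filter fun x => okB five avoid x.natAbs)
      (e - 1) 1 1).all fun X =>
    !okB five avoid (1 + X.sum).natAbs || sols.elem X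

/-- orders `h` of subgroups with `m = |H ∩ N(P)|` in `Ns` and `h / m ≡ 1` modulo `p` -/
def hList (p : ℕ) (Ns : List ℕ) : List ℕ :=
  Ns.flatMap fun m => ((List.range (40320 / m + 1)).filter fun n =>
    Nat.beq (n % p) 1 && Nat.beq (40320 % (m * n)) 0).map fun n => m * n

/-- an integral root bound -/
def rootBound (C : ℕ) : ℕ := ((List.range 201).find? fun r => decide (C < (r + 1) * (r + 1))).getD 0

/-- the vanishing rules for the centraliser order -/
def modsFor (C : ℕ) : List (ℕ × ℕ) :=
  [(3, 9), (5, 5), (7, 7)].filter fun pm => Nat.beq (C % pm.1) 0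

/-- the parameters for the centraliser order -/
def parFor (C : ℕ) : Par := ⟨443520, C, rootBound C, modsFor C⟩

/-- nothing is left -/
def none' : List Entry → ℕ → Bool := fun _ _ => false

/-- the start -/
def start (sp : Spec) (C : ℕ) (next : List Entry → ℕ → Bool) : Bool := run sp (parFor C) next [] 1

/-- `|N : C| = 3` at 7, away from the involution -/
def spec73 : Spec := ⟨7, 2, 8, sols73, false, true, false, false, true, .free⟩

/-- the same with the involution in the centraliser -/
def spec73five : Spec := ⟨7, 2, 8, sols73five, true, true, false, false, true, .free⟩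

/-- `|N : C| = 6` at 7 -/
def spec76 (sols : List (List ℤ)) (pos : Bool) : Spec :=
  ⟨7, 1, 4, sols, true, false, pos, false, true, .free⟩

/-- a block at 5 -/
def spec5 (t c : ℕ) (sols : List (List ℤ)) (inK : Bool) (o : Orth) : Spec :=
  ⟨5, t, c, sols, inK, false, false, false, false, o⟩

/-- the block at 11 -/
def spec11 (sols : List (List ℤ)) : Spec := ⟨11, 2, 1, sols, false, true, false, true, false, .free⟩

/-- the last step at 11 -/
def last11 (sols : List (List ℤ)) (C : ℕ) : List Entry → ℕ → Bool :=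
  run (spec11 sols) (parFor C) none'

/-- the configurations at 5 with `|N : C| = 2`: the centraliser and the normaliser orders -/
def cases2 : List (ℕ × List ℕ) :=
  [(192, [640, 1920]), (72, [80, 240, 720]), (32, [320]), (12, [40, 120]), (2, [20])]

/-- the configurations at 5 with `|N : C| = 4` -/
def cases4 : List (ℕ × List (List ℤ) × List ℕ) :=
  [(96, sols54three, [640, 1920]), (36, sols54three, [80, 240, 720]), (16, sols54two, [320]),
    (6, sols54three, [40, 120])]

/-- the states left by the block at 7 for `|N : C| = 3` -/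
def st73 : List (List Entry × ℕ) :=
  [([(55, -53, -2), (120, -96, 2), (66, -42, -1), (66, -42, -1)], 15554),
   ([(55, -49, -2), (120, -88, 2), (66, -38, -1), (66, -38, -1)], 13034),
   ([(55, -45, -2), (120, -80, 2), (66, -34, -1), (66, -34, -1)], 10738),
   ([(55, -41, -2), (120, -72, 2), (66, -30, -1), (66, -30, -1)], 8666),
   ([(55, -37, -2), (120, -64, 2), (66, -26, -1), (66, -26, -1)], 6818),
   ([(55, -33, -2), (120, -56, 2), (66, -22, -1), (66, -22, -1)], 5194),
   ([(55, -29, -2), (120, -48, 2), (66, -18, -1), (66, -18, -1)], 3794),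
   ([(55, -25, -2), (120, -40, 2), (66, -14, -1), (66, -14, -1)], 2618),
   ([(55, -21, -2), (120, -32, 2), (66, -10, -1), (66, -10, -1)], 1666),
   ([(55, -17, -2), (120, -56, 2), (66, -38, -1), (66, -38, -1)], 6314),
   ([(55, -17, -2), (120, -24, 2), (66, -6, -1), (66, -6, -1)], 938),
   ([(55, -13, -2), (120, -16, 2), (66, -2, -1), (66, -2, -1)], 434),
   ([(55, -9, -2), (120, -8, 2), (66, 2, -1), (66, 2, -1)], 154),
   ([(55, -5, -2), (120, 0, 2), (66, 6, -1), (66, 6, -1)], 98),
   ([(55, -1, -2), (120, 8, 2), (66, 10, -1), (66, 10, -1)], 266),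
   ([(55, 3, -2), (120, 16, 2), (66, 14, -1), (66, 14, -1)], 658),
   ([(55, 7, -2), (120, 24, 2), (66, 18, -1), (66, 18, -1)], 1274),
   ([(55, 11, -2), (120, 32, 2), (66, 22, -1), (66, 22, -1)], 2114),
   ([(55, 15, -2), (120, 40, 2), (66, 26, -1), (66, 26, -1)], 3178),
   ([(55, 19, -2), (120, 32, 2), (66, 14, -1), (66, 14, -1)], 1778),
   ([(55, 19, -2), (120, 48, 2), (66, 30, -1), (66, 30, -1)], 4466),
   ([(55, 23, -2), (120, 56, 2), (66, 34, -1), (66, 34, -1)], 5978),
   ([(55, 27, -2), (120, 64, 2), (66, 38, -1), (66, 38, -1)], 7714),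
   ([(55, 31, -2), (120, 72, 2), (66, 42, -1), (66, 42, -1)], 9674),
   ([(55, 35, -2), (120, 80, 2), (66, 46, -1), (66, 46, -1)], 11858),
   ([(55, 39, -2), (120, 88, 2), (66, 50, -1), (66, 50, -1)], 14266),
   ([(55, 43, -2), (120, 96, 2), (66, 54, -1), (66, 54, -1)], 16898),
   ([(55, 47, -2), (120, 104, 2), (66, 58, -1), (66, 58, -1)], 19754),
   ([(55, 51, -2), (120, 112, 2), (66, 62, -1), (66, 62, -1)], 22834),
   ([(55, -53, -2), (99, -81, 2), (45, -27, -1), (45, -27, -1)], 10829),
   ([(55, -41, -2), (99, -61, 2), (45, -19, -1), (45, -19, -1)], 6125),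
   ([(55, -33, -2), (99, -77, 2), (45, -43, -1), (45, -43, -1)], 10717),
   ([(55, -29, -2), (99, -69, 2), (45, -39, -1), (45, -39, -1)], 8645),
   ([(55, -29, -2), (99, -41, 2), (45, -11, -1), (45, -11, -1)], 2765),
   ([(55, -25, -2), (99, -61, 2), (45, -35, -1), (45, -35, -1)], 6797),
   ([(55, -21, -2), (99, -53, 2), (45, -31, -1), (45, -31, -1)], 5173),
   ([(55, -17, -2), (99, -45, 2), (45, -27, -1), (45, -27, -1)], 3773),
   ([(55, -17, -2), (99, -21, 2), (45, -3, -1), (45, -3, -1)], 749),
   ([(55, -13, -2), (99, -37, 2), (45, -23, -1), (45, -23, -1)], 2597),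
   ([(55, -9, -2), (99, -29, 2), (45, -19, -1), (45, -19, -1)], 1645),
   ([(55, -5, -2), (99, -21, 2), (45, -15, -1), (45, -15, -1)], 917),
   ([(55, -5, -2), (99, -1, 2), (45, 5, -1), (45, 5, -1)], 77),
   ([(55, -1, -2), (99, -13, 2), (45, -11, -1), (45, -11, -1)], 413),
   ([(55, 3, -2), (99, -5, 2), (45, -7, -1), (45, -7, -1)], 133),
   ([(55, 7, -2), (99, 3, 2), (45, -3, -1), (45, -3, -1)], 77),
   ([(55, 7, -2), (99, 19, 2), (45, 13, -1), (45, 13, -1)], 749),
   ([(55, 11, -2), (99, 11, 2), (45, 1, -1), (45, 1, -1)], 245),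
   ([(55, 15, -2), (99, 19, 2), (45, 5, -1), (45, 5, -1)], 637),
   ([(55, 19, -2), (99, 27, 2), (45, 9, -1), (45, 9, -1)], 1253),
   ([(55, 19, -2), (99, 39, 2), (45, 21, -1), (45, 21, -1)], 2765),
   ([(55, 23, -2), (99, 35, 2), (45, 13, -1), (45, 13, -1)], 2093),
   ([(55, 27, -2), (99, 43, 2), (45, 17, -1), (45, 17, -1)], 3157),
   ([(55, 31, -2), (99, 51, 2), (45, 21, -1), (45, 21, -1)], 4445),
   ([(55, 31, -2), (99, 59, 2), (45, 29, -1), (45, 29, -1)], 6125),
   ([(55, 35, -2), (99, 59, 2), (45, 25, -1), (45, 25, -1)], 5957),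
   ([(55, 39, -2), (99, 67, 2), (45, 29, -1), (45, 29, -1)], 7693),
   ([(55, 43, -2), (99, 75, 2), (45, 33, -1), (45, 33, -1)], 9653),
   ([(55, 43, -2), (99, 79, 2), (45, 37, -1), (45, 37, -1)], 10829),
   ([(55, 47, -2), (99, 83, 2), (45, 37, -1), (45, 37, -1)], 11837),
   ([(55, 51, -2), (99, 91, 2), (45, 41, -1), (45, 41, -1)], 14245)]

/-- the states left by the block at 7 for `|C(y)| = 56` with the involution in `C(y)` -/
def st73five : List (List Entry × ℕ) :=
  [([(55, -29, -2), (120, -48, 2), (66, -18, -1), (66, -18, -1)], 3794),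
   ([(55, -1, -2), (120, 8, 2), (66, 10, -1), (66, 10, -1)], 266),
   ([(55, 27, -2), (120, 64, 2), (66, 38, -1), (66, 38, -1)], 7714),
   ([(55, -29, -2), (99, -69, 2), (45, -39, -1), (45, -39, -1)], 8645),
   ([(55, -29, -2), (99, -41, 2), (45, -11, -1), (45, -11, -1)], 2765),
   ([(55, -1, -2), (99, -13, 2), (45, -11, -1), (45, -11, -1)], 413),
   ([(55, 27, -2), (99, 43, 2), (45, 17, -1), (45, 17, -1)], 3157)]

/-- the states left by the block at 7 for `|N : C| = 6` and `|C(i)| = 448` -/
def st76_448 : List (List Entry × ℕ) :=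
  [([(99, -13, 1), (132, -8, -1), (160, -8, -1), (160, -8, -1), (330, -6, 1), (22, -6, 1)], 434),
   ([(55, -1, -1), (99, -13, 1), (120, 8, 1), (330, -6, 1), (440, -8, -1), (55, -1, -1)], 336),
   ([(55, -1, -1), (55, -1, -1), (55, -1, -1), (99, -13, 1), (120, 8, 1), (55, -1, -1)], 238)]

/-- the states left by the block at 7 for `|N : C| = 6` and `|C(i)| = 1344` -/
def st76_1344 : List (List Entry × ℕ) :=
  [([(99, 15, 1), (99, 15, 1), (120, 8, 1), (132, 20, -1), (132, 20, -1), (55, -1, -1)], 1316),
   ([(55, -1, -1), (120, 8, 1), (132, -8, -1), (132, 20, -1), (176, 8, 1), (22, -6, 1)], 630)]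

/-- the states left by the block at 7 for `|N : C| = 6` and `|C(i)| = 2016` -/
def st76_2016 : List (List Entry × ℕ) :=
  [([(99, 15, 1), (99, 15, 1), (120, 8, 1), (132, 20, -1), (132, 20, -1), (55, -1, -1)], 1316),
   ([(55, -1, -1), (120, 8, 1), (132, -8, -1), (132, 20, -1), (176, 8, 1), (22, -6, 1)], 630)]

/-- the states left by the block at 7 for `|N : C| = 6` -/
def st76 (C : ℕ) : List (List Entry × ℕ) :=
  if Nat.beq C 448 then st76_448 else if Nat.beq C 1344 then st76_1344
  else if Nat.beq C 2016 then st76_2016 else []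

/-- the listed states, up to the order of the characters -/
def memSt (st : List (List Entry × ℕ)) : List Entry → ℕ → Bool := fun e q =>
  st.any fun s => Nat.beq s.2 q && s.1.isPerm e

/-- the parameters common to all centralisers -/
def parWide : Par := ⟨443520, 40320, 200, []⟩

/-- `next` holds at all listed states possible for `C` -/
def fromSt (st : List (List Entry × ℕ)) (C : ℕ) (next : List Entry → ℕ → Bool) : Bool :=
  st.all fun s => decide (C < s.2) ||
    !(s.1.all fun e => modsOk (modsFor C) e.1 e.2.1) || next s.1 s.2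

/-- the block at 7 for `|N : C| = 3` -/
def check73 : Bool := run spec73 parWide (memSt st73) [] 1

/-- the block at 7 for `|C(y)| = 56` -/
def check73five : Bool := run spec73five parWide (memSt st73five) [] 1

/-- the block at 7 for `|N : C| = 6` -/
def check76 : Bool :=
  (hList 7 [56, 168]).all fun C => start (spec76 sols76 false) C (memSt (st76 C))

/-- the block at 5 with `|N : C| = 2` after `|N : C| = 3` at 7 -/
def checkA1 : Bool :=
  cases2.all fun cn => (hList 5 cn.2).all fun C =>
    fromSt st73 C (run (spec5 2 cn.1 sols52 true .shared) (parFor C) none')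

/-- `|N : C| = 3` at 7 and `4` at 5 -/
def checkA2 (cn : ℕ × List (List ℤ) × List ℕ) : Bool :=
  (hList 5 cn.2.2).all fun C =>
    fromSt st73 C (run (spec5 1 cn.1 cn.2.1 true (.total 2)) (parFor C) (last11 sols115 C))

/-- the centraliser orders at 7 -/
def h7 : List ℕ := hList 7 [56, 168]

/-- `|C(y)| = 56` -/
def checkA3 : Bool :=
  h7.all fun C => Nat.beq (C % 5) 0 ||
    fromSt st73five C (run (spec5 1 1 sols54one false (.total 2)) (parFor C) (last11 sols115five C))

/-- `|N : C| = 6` at 7 with `|N : C| = 2` at 5 -/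
def checkB2 : Bool :=
  h7.all fun C => fromSt (st76 C) C fun e q =>
    cases2.all fun cn =>
      run (spec5 2 cn.1 sols52 (Nat.beq (C % 5) 0) (.total 2)) (parFor C) none' e q

/-- `|N : C| = 6` at 7 with `4` at 5 and `|C(z)| > 5` -/
def checkB4 : Bool :=
  h7.all fun C => fromSt (st76 C) C fun e q => cases4.all fun cn =>
    (Nat.beq C 2016 && Nat.beq cn.1 16) ||
      run (spec5 1 cn.1 cn.2.1 (Nat.beq (C % 5) 0) (.total 1)) (parFor C) (last11 sols115 C) e q

/-- `|N : C| = 6` at 7 with an inverting conjugate -/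
def checkBpos : Bool := start (spec76 sols76 true) 2016 none'

/-- `|N : C| = 6` at 7 with `|C(z)| = 5` -/
def checkB1 : Bool :=
  h7.all fun C => Nat.beq (C % 5) 0 || Nat.beq C 2016 || fromSt (st76 C) C
    (run (spec5 1 1 sols54one false (.total 1)) (parFor C) (last11 sols115five C))

end Cfsg.Agent.OrderM22.Recog
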