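/-
The searches of `Recog.Checks` evaluated by the kernel: `|N : C| = 3` at 7.

Main results (namespace `Cfsg.Agent.OrderM22.Recog`):
* `check73_true`, `check73five_true`, `checkA1_true`, `checkA3_true`
-/
import Cfsg.Agent.Lib.OrderM22.Recog.Checks

set_option autoImplicit false
set_option maxRecDepth 100000
set_option Elab.async false

namespace Cfsg.Agent.OrderM22.Recog

theorem check73_true : check73 = true := by decide +kernel

theorem check73five_true : check73five = true := by decide +kernel

theorem checkA1_true : checkA1 = true := by decide +kernel

theorem checkA3_true : checkA3 = true := by decide +kernel

end Cfsg.Agent.OrderM22.Recog
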