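/-
The searches of `Recog.Checks` evaluated by the kernel: `|N : C| = 3` at 7 and `4` at 5.

Main results (namespace `Cfsg.Agent.OrderM22.Recog`):
* `checkA2_true`
-/
import Cfsg.Agent.Lib.OrderM22.Recog.Checks

set_option autoImplicit false
set_option maxRecDepth 100000
set_option Elab.async false

namespace Cfsg.Agent.OrderM22.Recog

theorem checkA2_96 : checkA2 (96, sols54three, [640, 1920]) = true := by decide +kernel

theorem checkA2_36 : checkA2 (36, sols54three, [80, 240, 720]) = true := by decide +kernel

theorem checkA2_16 : checkA2 (16, sols54two, [320]) = true := by decide +kernel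

theorem checkA2_6 : checkA2 (6, sols54three, [40, 120]) = true := by decide +kernel

theorem checkA2_true : ∀ cn ∈ cases4, checkA2 cn = true := by
  simp only [cases4, List.forall_mem_cons, List.forall_mem_nil]
  exact ⟨checkA2_96, checkA2_36, checkA2_16, checkA2_6, fun _ h => nomatch h⟩

end Cfsg.Agent.OrderM22.Recog
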