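/-
The searches of `Recog.Checks` evaluated by the kernel: `|N : C| = 6` at 7 and `4` at 5.

Main results (namespace `Cfsg.Agent.OrderM22.Recog`):
* `checkB4_true`, `checkB1_true`, `checkBpos_true`
-/
import Cfsg.Agent.Lib.OrderM22.Recog.Checks

set_option autoImplicit false
set_option maxRecDepth 100000
set_option Elab.async false

namespace Cfsg.Agent.OrderM22.Recog

theorem checkB4_true : checkB4 = true := by decide +kernel

theorem checkB1_true : checkB1 = true := by decide +kernel

theorem checkBpos_true : checkBpos = true := by decide +kernel

end Cfsg.Agent.OrderM22.Recog
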