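/-
Completeness of the lists of degrees of `Recog.Checks`.

Main results (namespace `Cfsg.Agent.OrderM22.Recog`):
* `cover73` ... `cover115five`
-/
import Cfsg.Agent.Lib.OrderM22.Recog.Checks

set_option autoImplicit false
set_option maxRecDepth 100000

namespace Cfsg.Agent.OrderM22.Recog

theorem cover73 : coverBool 7 3 2 false [] sols73 = true := by decide +kernel

theorem cover73five : coverBool 7 3 14 true [128] sols73five = true := by decide +kernel

theorem cover76 : coverBool 7 6 14 false [128] sols76 = true := by decide +kernel

theorem cover52 : coverBool 5 2 10 false [128] sols52 = true := by decide +kernel

theorem cover54three : coverBool 5 4 10 false [128, 9] sols54three = true := by decide +kernel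

theorem cover54two : coverBool 5 4 10 false [128] sols54two = true := by decide +kernel

theorem cover54one : coverBool 5 4 2 true [] sols54one = true := by decide +kernel

theorem cover115 : coverBool 11 5 2 false [] sols115 = true := by decide +kernel

theorem cover115five : coverBool 11 5 2 true [] sols115five = true := by decide +kernel

end Cfsg.Agent.OrderM22.Recog
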