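/-
The class formula for an involution in a given principal block with cyclic defect.

Main results (namespace `Cfsg.Agent.OrderM22.Recog`):
* `exists_card_pairs` : the number of pairs is `p` times a square
* `class_formula` : the class formula in the degrees and values of the block
-/
import Cfsg.Agent.Lib.SmallOrders.BlockDegrees.ValueFormula

set_option autoImplicit false

open scoped ComplexConjugate

namespace Cfsg.Agent.OrderM22.Recog

open Cfsg Cfsg.Agent.Blocks Cfsg.Agent.CyclicDefect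
open Cfsg.Agent.SmallOrders.BlockDegrees (Pairs conj_eq_inv_of_pair BlockData oneChar)

variable {G : Type*} [Group G] [Finite G]

theorem conj_pow_eq_inv {a x : G} (h : a * x * a⁻¹ = x⁻¹) (n : ℕ) : a * x ^ n = (x ^ n)⁻¹ * a := by
  have : a * x ^ n * a⁻¹ = (x ^ n)⁻¹ := by rw [← conj_pow, h, inv_pow]
  exact mul_inv_eq_iff_eq_mul.mp this

/-- An involution inverting `x` normalises the regular part of its centraliser. -/
theorem exists_conj_K {p : ℕ} {x : G} {L : Subgroup G} (hS : Setting p x L) {a : G}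
    (h : a * x * a⁻¹ = x⁻¹) (k : K x L) :
    ∃ k' : K x L, a * ((k : L) : G) * a⁻¹ = ((k' : L) : G) := by
  refine hS.exists_K_of_regular ?_ ?_
  · have hc : Commute x⁻¹ (a * ((k : L) : G) * a⁻¹) := by
      rw [← h]
      exact (Commute.conj_iff a).mpr (hS.commute_K k)
    simpa using hc.inv_left
  · rw [SecondMain.orderOf_conj]
    exact hS.regular_K k

/-- The number of pairs of conjugates of an involution with product in `x K` is `p m²`. -/
theorem exists_card_pairs {p : ℕ} [Fact p.Prime] (hodd : p ≠ 2) {x t : G} {L : Subgroup G}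
    (hS : Setting p x L) (ht : t * t = 1) :
    ∃ m : ℕ, m ≤ Nat.card (K x L) ∧ Nat.card (Pairs x t L) = p * (m * m) ∧
      ((∃ a, IsConj t a ∧ a * x * a⁻¹ = x⁻¹) → 0 < m) := by
  classical
  by_cases hex : ∃ a, IsConj t a ∧ a * x * a⁻¹ = x⁻¹
  swap
  · refine ⟨0, Nat.zero_le _, ?_, fun h => absurd h hex⟩
    have : IsEmpty (Pairs x t L) := ⟨fun z => hex ⟨_, z.2.2.1, conj_eq_inv_of_pair hS ht z⟩⟩
    simp
  obtain ⟨a₀, ha₀, hax₀⟩ := hex
  have hinvol : ∀ u : G, IsConj t u → u * u = 1 := fun u hu => by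
    obtain ⟨g, rfl⟩ := isConj_iff.mp hu
    rw [show g * t * g⁻¹ * (g * t * g⁻¹) = g * (t * t) * g⁻¹ by group, ht, mul_one, mul_inv_cancel]
  have hcl : ∀ (g u : G), IsConj t u → IsConj t (g * u * g⁻¹) := fun g u hu =>
    hu.trans (isConj_iff.mpr ⟨g, rfl⟩)
  obtain ⟨h', hh⟩ := hS.hp.odd_of_ne_two hodd
  have hxp := hS.pow_eq_one
  let F := {f : G // IsConj t f ∧ ∃ k : K x L, f = a₀ * ((k : L) : G)}
  have hFinv : ∀ f : F, (f : G) * x * (f : G)⁻¹ = x⁻¹ := fun ⟨f, _, k, hk⟩ => by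
    subst hk
    calc a₀ * ((k : L) : G) * x * (a₀ * ((k : L) : G))⁻¹
        = a₀ * (((k : L) : G) * x * ((k : L) : G)⁻¹) * a₀⁻¹ := by group
      _ = x⁻¹ := by rw [← (hS.commute_K k).eq, mul_inv_cancel_right, hax₀]
  refine ⟨Nat.card F, ?_, ?_, fun _ => ?_⟩
  · refine Nat.card_le_card_of_injective (fun f : F => f.2.2.choose) fun f g he => ?_
    refine Subtype.ext ?_
    simp only at he
    rw [f.2.2.choose_spec, g.2.2.choose_spec, he]
  · conv_rhs => rw [← Nat.card_fin p]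
    rw [← Nat.card_prod, ← Nat.card_prod]
    -- the element attached to a rotation and two members of the fibre
    have key : ∀ (i : ℕ) (f g : F), ∃ k : K x L,
        (x ^ i * (f : G) * (x ^ i)⁻¹) * (x ^ (i + h') * (g : G) * (x ^ (i + h'))⁻¹) = x * ((k : L) : G) := by
      intro i f g
      obtain ⟨kf, hkf⟩ := f.2.2
      obtain ⟨kg, hkg⟩ := g.2.2
      obtain ⟨k', hk'⟩ := exists_conj_K hS (hFinv f) kg
      obtain ⟨kf', hkf'⟩ := exists_conj_K hS hax₀ kf
      have hfg : ∃ k : K x L, (f : G) * (g : G) = ((k : L) : G) := by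
        refine ⟨kf' * kg, ?_⟩
        rw [Subgroup.coe_mul, Subgroup.coe_mul, ← hkf', hkf, hkg,
          inv_eq_of_mul_eq_one_right (hinvol a₀ ha₀)]
        group
      obtain ⟨k, hk⟩ := hfg
      refine ⟨k, ?_⟩
      have hf := conj_pow_eq_inv (hFinv f)
      have hc : ∀ n, Commute (x ^ n) ((k : L) : G) := fun n => (hS.commute_K k).pow_left n
      calc x ^ i * (f : G) * (x ^ i)⁻¹ * (x ^ (i + h') * (g : G) * (x ^ (i + h'))⁻¹)
          = x ^ i * ((f : G) * x ^ h') * (g : G) * (x ^ (i + h'))⁻¹ := by rw [pow_add]; group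
        _ = x ^ i * (x ^ h')⁻¹ * ((f : G) * (g : G)) * (x ^ (i + h'))⁻¹ := by rw [hf]; group
        _ = x ^ i * (x ^ h')⁻¹ * (x ^ (i + h'))⁻¹ * ((k : L) : G) := by
          rw [hk, mul_assoc _ ((k : L) : G), ← (hc (i + h')).inv_left.eq, ← mul_assoc]
        _ = (x ^ (h' + h'))⁻¹ * ((k : L) : G) := by group
        _ = x * ((k : L) : G) := by
          congr 1
          refine inv_eq_of_mul_eq_one_right ?_
          rw [← pow_succ, show h' + h' + 1 = p by omega, hxp]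
    choose kk hkk using key
    let Φ : Fin p × (F × F) → Pairs x t L := fun z =>
      ⟨kk z.1 z.2.1 z.2.2, (x ^ (z.1 : ℕ) * (z.2.1 : G) * (x ^ (z.1 : ℕ))⁻¹,
        x ^ ((z.1 : ℕ) + h') * (z.2.2 : G) * (x ^ ((z.1 : ℕ) + h'))⁻¹),
        hcl _ _ z.2.1.2.1, hcl _ _ z.2.2.2.1, hkk _ _ _⟩
    refine (Nat.card_eq_of_bijective Φ ⟨?_, ?_⟩).symm
    · rintro ⟨i, f, g⟩ ⟨i', f', g'⟩ he
      have e1 : x ^ (i : ℕ) * (f : G) * (x ^ (i : ℕ))⁻¹ = x ^ (i' : ℕ) * (f' : G) * (x ^ (i' : ℕ))⁻¹ :=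
        congrArg (fun w : Pairs x t L => w.2.1.1) he
      have e2 : x ^ ((i : ℕ) + h') * (g : G) * (x ^ ((i : ℕ) + h'))⁻¹ =
          x ^ ((i' : ℕ) + h') * (g' : G) * (x ^ ((i' : ℕ) + h'))⁻¹ :=
        congrArg (fun w : Pairs x t L => w.2.1.2) he
      have hrot : ∀ (n : ℕ) (f : F), x ^ n * (f : G) * (x ^ n)⁻¹ = pw x ((2 * n : ℕ) : ZMod p) * (f : G) :=
        fun n f => by
          have h1 : (f : G) * (x ^ n)⁻¹ = x ^ n * (f : G) := by
            rw [mul_inv_eq_iff_eq_mul, mul_assoc, conj_pow_eq_inv (hFinv f), ← mul_assoc, mul_inv_cancel,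
              one_mul]
          rw [mul_assoc, h1, ← mul_assoc, ← pow_add, hS.pw_natCast, two_mul]
      obtain ⟨k, hk⟩ := f.2.2
      obtain ⟨k', hk'⟩ := f'.2.2
      obtain ⟨k₁, hk₁⟩ := exists_conj_K hS hax₀ k
      obtain ⟨k₁', hk₁'⟩ := exists_conj_K hS hax₀ k'
      have e1' := e1
      rw [hrot, hrot, hk, hk', mul_inv_eq_iff_eq_mul.mp hk₁, mul_inv_eq_iff_eq_mul.mp hk₁',
        ← mul_assoc, ← mul_assoc, mul_left_inj] at e1'
      obtain ⟨hii, -⟩ := hS.decomp_unique e1'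
      have hi : i = i' := by
        refine Fin.ext ?_
        have h2 := (ZMod.natCast_eq_natCast_iff' _ _ p).mp hii
        rw [← Nat.ModEq] at h2
        have := Nat.ModEq.cancel_left_of_coprime
          ((Nat.coprime_primes hS.hp Nat.prime_two).mpr hodd) h2
        exact this.eq_of_lt_of_lt i.2 i'.2
      subst hi
      rw [mul_left_inj, mul_right_inj] at e1 e2
      rw [Subtype.ext e1, Subtype.ext e2]
    · rintro ⟨k, ⟨a, b⟩, ha, hb, hab⟩
      have hab' : a * b = x * ((k : L) : G) := hab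
      have hainv := conj_eq_inv_of_pair hS ht ⟨k, (a, b), ha, hb, hab⟩
      simp only at hainv
      have hc : Commute x (a₀⁻¹ * a) := by
        show x * (a₀⁻¹ * a) = a₀⁻¹ * a * x
        calc x * (a₀⁻¹ * a) = a₀⁻¹ * (a₀ * x * a₀⁻¹) * a := by group
          _ = a₀⁻¹ * (a * x * a⁻¹) * a := by rw [hax₀, hainv]
          _ = a₀⁻¹ * a * x := by group
      obtain ⟨j, k₁, hj⟩ := hS.decomp hc
      have ha' : a = a₀ * x ^ j.val * ((k₁ : L) : G) := by
        rw [mul_assoc, show x ^ j.val * ((k₁ : L) : G) = a₀⁻¹ * a from hj.symm, mul_inv_cancel_left]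
      set i := j.val * h' with hi
      have hinv₀ := conj_pow_eq_inv hax₀
      have hf : (x ^ i)⁻¹ * a * x ^ i = a₀ * ((k₁ : L) : G) := by
        rw [ha', show (x ^ i)⁻¹ * (a₀ * x ^ j.val * ((k₁ : L) : G)) * x ^ i =
          ((x ^ i)⁻¹ * a₀) * x ^ j.val * (((k₁ : L) : G) * x ^ i) by group,
          ← ((hS.commute_K k₁).pow_left i).eq, ← hinv₀]
        have : x ^ i * x ^ j.val * x ^ i = 1 := by
          rw [← pow_add, ← pow_add, show i + j.val + i = (2 * h' + 1) * j.val by rw [hi]; ring, ← hh, pow_mul, hxp,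
            one_pow]
        calc a₀ * x ^ i * x ^ j.val * (x ^ i * ((k₁ : L) : G))
            = a₀ * (x ^ i * x ^ j.val * x ^ i) * ((k₁ : L) : G) := by group
          _ = a₀ * ((k₁ : L) : G) := by rw [this, mul_one]
      let f : F := ⟨(x ^ i)⁻¹ * a * x ^ i, by
        simpa using hcl (x ^ i)⁻¹ a ha, k₁, hf⟩
      have hb' : b = a * (x * ((k : L) : G)) := by
        rw [← hab', ← mul_assoc, hinvol a ha, one_mul]
      have hg : (x ^ (i + h'))⁻¹ * b * x ^ (i + h') = a₀ * ((k₁ * k : K x L) : L) := by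
        have hcmk := (hS.commute_K k).pow_left (i + h')
        rw [hb', show (x ^ (i + h'))⁻¹ * (a * (x * ((k : L) : G))) * x ^ (i + h') =
          ((x ^ (i + h'))⁻¹ * a) * x * (((k : L) : G) * x ^ (i + h')) by group,
          ← hcmk.eq, ← conj_pow_eq_inv hainv, Subgroup.coe_mul, Subgroup.coe_mul]
        calc a * x ^ (i + h') * x * (x ^ (i + h') * ((k : L) : G))
            = a * (x ^ (i + h') * x * x ^ (i + h')) * ((k : L) : G) := by group
          _ = (x ^ i)⁻¹ * a * x ^ i * ((k : L) : G) := by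
            rw [← conj_pow_eq_inv hainv, ← pow_succ, ← pow_add,
              show i + h' + 1 + (i + h') = (i + i) + p by omega, pow_add _ _ p, hxp, mul_one, pow_add]
            group
          _ = a₀ * (((k₁ : L) : G) * ((k : L) : G)) := by rw [hf, mul_assoc]
      let g : F := ⟨(x ^ (i + h'))⁻¹ * b * x ^ (i + h'), by
        simpa using hcl (x ^ (i + h'))⁻¹ b hb, k₁ * k, hg⟩
      refine ⟨(⟨i % p, Nat.mod_lt _ hS.hp.pos⟩, f, g), ?_⟩
      have e : ∀ n : ℕ, x ^ (i % p + n) = x ^ (i + n) := fun n => by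
        rw [pow_eq_pow_iff_modEq, hS.hx]; exact (Nat.mod_modEq i p).add_right n
      have ea : x ^ (i % p) * (f : G) * (x ^ (i % p))⁻¹ = a := by
        have := e 0; simp only [add_zero] at this
        rw [this]; show x ^ i * ((x ^ i)⁻¹ * a * x ^ i) * (x ^ i)⁻¹ = a
        group
      have eb : x ^ (i % p + h') * (g : G) * (x ^ (i % p + h'))⁻¹ = b := by
        rw [e]; show x ^ (i + h') * ((x ^ (i + h'))⁻¹ * b * x ^ (i + h')) * (x ^ (i + h'))⁻¹ = b
        group
      have ek : kk (i % p) f g = k := by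
        have h2 := hkk (i % p) f g
        rw [ea, eb, hab'] at h2
        exact Subtype.ext (Subtype.ext (mul_left_cancel h2).symm)
      have hext : ∀ z w : Pairs x t L, z.1 = w.1 → z.2.1 = w.2.1 → z = w := by
        rintro ⟨k, q, h⟩ ⟨k', q', h'⟩ e1 e2
        simp only at e1 e2
        subst e1; subst e2; rfl
      exact hext _ _ ek (Prod.ext ea eb)
  · have : Nonempty F := ⟨⟨a₀, ha₀, 1, by simp⟩⟩
    exact Nat.card_pos

variable [IsSimpleGroup G]

/-- The class formula in a given principal block. -/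
theorem class_formula {p c e lo : ℕ} [Fact p.Prime] {x t : G} {L : Subgroup G}
    {A E : Finset (IrrCharacter G)} {σ : IrrCharacter G → ℤ} {ε : ℤ}
    (hS : Setting p x L) (hcK : Nat.card (K x L) = c) (hD : BlockData p e lo x L A E σ ε)
    (u : IrrCharacter G → ℤ) (hu : ∀ χ : IrrCharacter G, (χ : G → ℂ) t = u χ)
    {χe : IrrCharacter G} (hχe : χe ∈ E)
    (hE : ∀ χ ∈ E, charDegree (χ : G → ℂ) = charDegree (χe : G → ℂ) ∧ u χ = u χe) :
    (c : ℤ) * ((Nat.card G : ℤ) +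
        ∑ χ ∈ A, u χ * u χ * ((Nat.card G : ℤ) / (σ χ * (charDegree (χ : G → ℂ) : ℤ))) -
        (ε * u χe) * (ε * u χe) * ((Nat.card G : ℤ) / (ε * (charDegree (χe : G → ℂ) : ℤ)))) =
      (Nat.card (Pairs x t L) : ℤ) * (Nat.card (Subgroup.centralizer ({t} : Set G)) : ℤ) ^ 2 := by
  classical
  have := Fintype.ofFinite G
  have := Fintype.ofFinite (IrrCharacter G)
  have := Fintype.ofFinite (K x L)
  set d : IrrCharacter G → ℕ := fun χ => charDegree (χ : G → ℂ) with hd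
  have hdC : ∀ χ : IrrCharacter G, (χ : G → ℂ) 1 = (d χ : ℂ) := fun χ => (charDegree_cast χ).symm
  set w := ε * u χe with hw
  set y := ε * (d χe : ℤ) with hy
  set S := insert (oneChar G) (A ∪ E) with hSdef
  have hone_not : oneChar G ∉ A ∪ E := fun h =>
    (Finset.mem_union.mp h).elim hD.one_notA hD.one_notE
  set m := Nat.card {g : G // IsConj t g}
  set C := Nat.card (Subgroup.centralizer ({t} : Set G))
  have hmC : (m : ℂ) * (C : ℂ) = (Nat.card G : ℂ) := by
    exact_mod_cast Char.card_conjugates_mul_card_centralizer t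
  have hg0 : (Nat.card G : ℂ) ≠ 0 := Nat.cast_ne_zero.mpr Nat.card_pos.ne'
  have hpairs : (Nat.card (Pairs x t L) : ℂ) = (m : ℂ) * (m : ℂ) / (Nat.card G : ℂ) *
      ∑ χ : IrrCharacter G, (χ : G → ℂ) t * (χ : G → ℂ) t *
        conj (∑ k : K x L, (χ : G → ℂ) (x * ((k : L) : G))) / (χ : G → ℂ) 1 := by
    rw [Nat.card_sigma, Nat.cast_sum]
    simp_rw [Char.class_mult_formula]
    rw [← Finset.mul_sum, Finset.sum_comm]
    congr 1
    refine Finset.sum_congr rfl fun χ _ => ?_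
    rw [map_sum, Finset.mul_sum, Finset.sum_div]
  have hsum : ∑ χ : IrrCharacter G, (χ : G → ℂ) t * (χ : G → ℂ) t *
        conj (∑ k : K x L, (χ : G → ℂ) (x * ((k : L) : G))) / (χ : G → ℂ) 1 =
      (c : ℂ) * (1 + (∑ χ ∈ A, ((u χ : ℤ) : ℂ) ^ 2 / ((σ χ * (d χ : ℤ) : ℤ) : ℂ)) -
        (w : ℂ) ^ 2 / (y : ℂ)) := by
    rw [← Finset.sum_subset (Finset.subset_univ S) fun χ _ hχ => by
      simp only [hSdef, Finset.mem_insert, Finset.mem_union, not_or] at hχ
      rw [hD.other χ hχ.1 hχ.2.1 hχ.2.2, map_zero, mul_zero, zero_div],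
      hSdef, Finset.sum_insert hone_not, Finset.sum_union hD.disj]
    have e1 : ∀ χ ∈ A, (χ : G → ℂ) t * (χ : G → ℂ) t *
        conj (∑ k : K x L, (χ : G → ℂ) (x * ((k : L) : G))) / (χ : G → ℂ) 1 =
        (c : ℂ) * (((u χ : ℤ) : ℂ) ^ 2 / ((σ χ * (d χ : ℤ) : ℤ) : ℂ)) := fun χ hχ => by
      rw [Finset.sum_congr rfl fun k _ => hD.valA χ hχ k, Finset.sum_const, Finset.card_univ,
        ← Nat.card_eq_fintype_card, hcK, nsmul_eq_mul, map_mul, map_natCast, map_intCast, hu χ, hdC χ]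
      rcases hD.sign χ hχ with h | h <;> rw [h] <;> push_cast <;> ring
    have e2 : ∑ χ ∈ E, (χ : G → ℂ) t * (χ : G → ℂ) t *
        conj (∑ k : K x L, (χ : G → ℂ) (x * ((k : L) : G))) / (χ : G → ℂ) 1 =
        -((c : ℂ) * ((w : ℂ) ^ 2 / (y : ℂ))) := by
      have e4 : ∀ χ ∈ E, (χ : G → ℂ) t * (χ : G → ℂ) t *
          conj (∑ k : K x L, (χ : G → ℂ) (x * ((k : L) : G))) / (χ : G → ℂ) 1 =
          (u χe : ℂ) * (u χe : ℂ) / (d χe : ℂ) *
            conj (∑ k : K x L, (χ : G → ℂ) (x * ((k : L) : G))) := fun χ hχ => by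
        rw [hu χ, hdC χ, show d χ = d χe from (hE χ hχ).1, (hE χ hχ).2, mul_div_right_comm]
      rw [Finset.sum_congr rfl e4, ← Finset.mul_sum, ← map_sum, Finset.sum_comm,
        Finset.sum_congr rfl fun k _ => hD.valE k,
        Finset.sum_const, Finset.card_univ, ← Nat.card_eq_fintype_card, hcK, nsmul_eq_mul, map_mul,
        map_natCast, map_neg, map_intCast, hw, hy]
      rcases hD.signE with h | h <;> rw [h] <;> push_cast <;> ring
    rw [Finset.sum_congr rfl e1, ← Finset.mul_sum, e2]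
    have e0 : ∀ k : K x L, (oneChar G : G → ℂ) (x * ((k : L) : G)) = 1 := fun _ => rfl
    rw [Finset.sum_congr rfl fun k _ => e0 k, Finset.sum_const, Finset.card_univ,
      ← Nat.card_eq_fintype_card, hcK, show (oneChar G : G → ℂ) t = 1 from rfl,
      show (oneChar G : G → ℂ) 1 = 1 from rfl, nsmul_eq_mul, mul_one (c : ℂ), map_natCast]
    ring
  have hdiv : ∀ z : ℤ, z.natAbs ∣ Nat.card G →
      (((Nat.card G : ℤ) / z : ℤ) : ℂ) = (Nat.card G : ℂ) / (z : ℂ) := fun z hz => by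
    have h0 : (z : ℂ) ≠ 0 := Int.cast_ne_zero.mpr fun e' => by
      rw [e'] at hz; exact Nat.card_pos.ne' (Nat.eq_zero_of_zero_dvd hz)
    rw [Int.cast_div (Int.natAbs_dvd.mp (Int.natCast_dvd_natCast.mpr hz)) h0, Int.cast_natCast]
  have hdvd : ∀ (χ : IrrCharacter G) (s : ℤ), s = 1 ∨ s = -1 → (s * (d χ : ℤ)).natAbs ∣ Nat.card G := by
    intro χ s hs
    have : (s * (d χ : ℤ)).natAbs = d χ := by rcases hs with h | h <;> simp [h]
    rw [this]; exact charDegree_dvd_card χ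
  apply Int.cast_injective (α := ℂ)
  push_cast
  rw [hdiv _ (hdvd χe ε hD.signE),
    Finset.sum_congr rfl fun χ hχ => by rw [hdiv (σ χ * (d χ : ℤ)) (hdvd χ (σ χ) (hD.sign χ hχ))],
    hpairs, hsum]
  have hC0 : (C : ℂ) ≠ 0 := Nat.cast_ne_zero.mpr Nat.card_pos.ne'
  have hm : (m : ℂ) = (Nat.card G : ℂ) / (C : ℂ) := eq_div_of_mul_eq hC0 hmC
  have e3 : ∑ χ ∈ A, (u χ : ℂ) * (u χ : ℂ) * ((Nat.card G : ℂ) / ((σ χ * (d χ : ℤ) : ℤ) : ℂ)) =
      (Nat.card G : ℂ) * ∑ χ ∈ A, ((u χ : ℤ) : ℂ) ^ 2 / ((σ χ * (d χ : ℤ) : ℤ) : ℂ) := by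
    rw [Finset.mul_sum]
    exact Finset.sum_congr rfl fun χ _ => by ring
  rw [e3, hm, hw, hy]
  push_cast
  field_simp

end Cfsg.Agent.OrderM22.Recog
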