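/-
What the characters of a simple group of order 443520 satisfy at an involution.

Main results (namespace `Cfsg.Agent.OrderM22.Recog`):
* `env` : the setting of the search
* `exists_sol`, `exists_block` : a principal block as a step of the search
* `weight`, `orth_total`, `orth_shared` : the relation between two blocks
-/
import Cfsg.Agent.Lib.OrderM22.Recog.Checks
import Cfsg.Agent.Lib.OrderM22.Recog.Pairs
import Cfsg.Agent.Lib.Order10200960.OrdTools
import Cfsg.Agent.Lib.Blocks.HeightZeroValues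
import Cfsg.Agent.Lib.GaloisAvg.PElement

set_option autoImplicit false

open scoped ComplexConjugate

namespace Cfsg.Agent.OrderM22.Recog

open Cfsg Cfsg.Agent.Blocks Cfsg.Agent.CyclicDefect Cfsg.Agent.SmallOrders.BlockDegrees
open Cfsg.Agent.Order10200960 (Blk avg dg_cast defect_le exists_orderOf_of_dvd)
open Cfsg.Agent.OrderM22 (dg)

variable {G : Type*} [Group G] [Finite G]

theorem rootBound_spec {C : ℕ} (h : C ≤ 40320) : C < (rootBound C + 1) * (rootBound C + 1) := by
  unfold rootBound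
  cases hf : (List.range 201).find? fun r => decide (C < (r + 1) * (r + 1)) with
  | some r => simpa using List.find?_some hf
  | none =>
    have := List.find?_eq_none.mp hf 200 (List.mem_range.mpr (by norm_num))
    simp at this
    omega

/-- A character of full `q`-degree is `0` modulo `q` at an involution commuting with a `q`-element. -/
theorem val_mod_of_dvd {q k : ℕ} [Fact q.Prime] (hq2 : q ≠ 2) (hk : ¬ q ^ (k + 1) ∣ Nat.card G)
    {t : G} (ht : orderOf t = 2) (hqC : q ∣ Nat.card (Subgroup.centralizer ({t} : Set G)))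
    {χ : IrrCharacter G} (hd : q ^ k ∣ dg χ) {v : ℤ} (hv : (χ : G → ℂ) t = v) :
    v % (q : ℤ) = 0 := by
  have hq : q.Prime := Fact.out
  obtain ⟨w, hw, hwo⟩ := exists_orderOf_of_dvd hqC
  have hwt : Commute w t := Subgroup.mem_centralizer_singleton_iff.mp hw
  obtain ⟨M, hM⟩ := CentralChar.exists_pModular q
  have h0 : (χ : G → ℂ) (w * t) = 0 := by
    refine Char.vanishes_of_defect_zero hq χ.2 (dg_cast χ)
      (defect_le hq Nat.card_pos.ne' (charDegree_pos χ).ne' hk hd) _ ?_
    rw [hwt.orderOf_mul_eq_mul_orderOf_of_coprime, hwo]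
    · exact dvd_mul_right _ _
    · rw [hwo, ht]; exact (Nat.coprime_primes hq Nat.prime_two).mpr hq2
  have h := memI_apply_mul_sub hM (χ := χ) (x := w) (y := t) ⟨1, by rw [hwo, pow_one]⟩ hwt
  rw [h0, hv, ← Int.cast_zero] at h
  exact Int.emod_eq_zero_of_dvd (Int.modEq_zero_iff_dvd.mp (intModEq_of_memI hM h).symm)

theorem sum_sq_val [Fintype (IrrCharacter G)] {t : G} {u : IrrCharacter G → ℤ}
    (hu : ∀ χ : IrrCharacter G, (χ : G → ℂ) t = u χ) :
    ∑ χ, (u χ).natAbs * (u χ).natAbs = Nat.card (Subgroup.centralizer ({t} : Set G)) := by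
  classical
  have := Fintype.ofFinite G
  apply Nat.cast_injective (R := ℂ)
  have h := Char.column_orth (G := G) t t
  rw [if_pos (IsConj.refl t)] at h
  rw [← h, Nat.cast_sum]
  refine Finset.sum_congr rfl fun χ _ => ?_
  rw [hu χ, map_intCast, ← Int.cast_natCast, sq_natAbs, Int.cast_mul]

variable [IsSimpleGroup G]

theorem not_comm (hc : Nat.card G = 443520) : ¬ IsMulCommutative G :=
  SmallOrders.not_isMulCommutative_of_card (by rw [hc]; norm_num)

/-- **The setting of the search.** -/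
theorem env (hc : Nat.card G = 443520) {t : G} (ht : orderOf t = 2) {C : ℕ}
    (hC : Nat.card (Subgroup.centralizer ({t} : Set G)) = C) (hC' : C ∣ 40320)
    {u : IrrCharacter G → ℤ} (hu : ∀ χ : IrrCharacter G, (χ : G → ℂ) t = u χ) :
    Env (parFor C) dg u (fun χ => χ ≠ oneChar G) := by
  classical
  have := Fintype.ofFinite (IrrCharacter G)
  have hG := not_comm hc
  have htt : t * t = 1 := by rw [← pow_two, ← ht, pow_orderOf_eq_one]
  have ht1 : t ≠ 1 := fun e => by rw [e, orderOf_one] at ht; omega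
  refine ⟨fun s hs => ?_, rootBound_spec (Nat.le_of_dvd (by norm_num) hC'), fun χ hχ => norm_int_lt ?_,
    fun χ _ => ?_, fun χ _ pm hpm hd => ?_⟩
  · show _ ≤ C
    rw [← hC, ← sum_sq_val hu]
    have h1 : u (oneChar G) = 1 := by
      have h := hu (oneChar G)
      rw [show (oneChar G : G → ℂ) t = 1 from rfl] at h
      exact_mod_cast h.symm
    have h2 : oneChar G ∉ s := fun h => hs _ h rfl
    have h3 := Finset.sum_le_univ_sum_of_nonneg (s := insert (oneChar G) s)
      (f := fun χ => (u χ).natAbs * (u χ).natAbs) (fun _ => Nat.zero_le _)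
    rw [Finset.sum_insert h2, h1] at h3
    simpa using h3
  · rw [← hu χ]
    exact norm_lt_of_ne_one hG χ.2 (fun e => hχ (Subtype.ext e)) ht1
  · obtain ⟨v, hv, hv4⟩ := exists_int_mod_four hG (Char.IsIrrCharacter.isCharacter χ.2) htt
    rw [hu χ] at hv
    rwa [Int.cast_injective hv]
  · obtain ⟨hm, hb⟩ := List.mem_filter.mp hpm
    have hqC : pm.1 ∣ Nat.card (Subgroup.centralizer ({t} : Set G)) :=
      hC ▸ Nat.dvd_of_mod_eq_zero (Nat.eq_of_beq_eq_true hb)
    simp only [List.mem_cons, List.not_mem_nil, or_false] at hm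
    rcases hm with rfl | rfl | rfl
    · have : Fact (Nat.Prime 3) := ⟨by norm_num⟩
      exact val_mod_of_dvd (k := 2) (by norm_num) (by rw [hc]; norm_num) ht hqC hd (hu χ)
    · have : Fact (Nat.Prime 5) := ⟨by norm_num⟩
      exact val_mod_of_dvd (k := 1) (by norm_num) (by rw [hc]; norm_num) ht hqC (by simpa using hd) (hu χ)
    · have : Fact (Nat.Prime 7) := ⟨by norm_num⟩
      exact val_mod_of_dvd (k := 1) (by norm_num) (by rw [hc]; norm_num) ht hqC (by simpa using hd) (hu χ)

variable {p c j lo : ℕ} {x : G} {L : Subgroup G} {A E : Finset (IrrCharacter G)}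
  {σ : IrrCharacter G → ℤ} {ε : ℤ}

/-- A member has no full part at a prime dividing `c`. -/
theorem not_dvd_member (h : Blk p c j lo x L A E σ ε) {q k : ℕ} (hq : q.Prime) (hqc : q ∣ c)
    (hk : ¬ q ^ (k + 1) ∣ Nat.card G) {χ : IrrCharacter G} (hχ : χ ∈ A ∨ χ ∈ E) : ¬ q ^ k ∣ dg χ :=
  fun hd => by
  have := Fact.mk hq
  obtain ⟨h1, h2⟩ := h.not_mem_of_vanish hqc (defect_le hq Nat.card_pos.ne' (charDegree_pos χ).ne' hk hd)
  exact hχ.elim h1 h2

theorem other_dvd [Fact p.Prime] (h : Blk p 1 j lo x L A E σ ε) {χ : IrrCharacter G}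
    (h1 : χ ≠ oneChar G) (h2 : χ ∉ A) (h3 : χ ∉ E) : p ∣ dg χ := by
  have h0 := h.avg_other h1 h2 h3
  have : Subsingleton (K x L) := (Nat.card_eq_one_iff_unique.mp h.cardK).1
  have := Fintype.ofFinite (K x L)
  rw [Order10200960.avg_eq, Fintype.sum_subsingleton _ 1, OneMemClass.coe_one, OneMemClass.coe_one,
    mul_one] at h0
  exact GaloisAvg.dvd_degree_of_apply_eq_zero (Char.IsIrrCharacter.isCharacter χ.2) (g := x) (k := 1)
    (by rw [pow_one]; exact h.set.pow_eq_one) (dg_cast χ) h0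

/-- **The degrees of a principal block form one of the listed solutions.** -/
theorem exists_sol (hc : Nat.card G = 443520) (hb : Blk p c j lo x L A E σ ε) {five : Bool}
    {avoid : List ℕ} {sols : List (List ℤ)} (hcov : coverBool p j lo five avoid sols = true)
    (hok : ∀ χ, χ ∈ A ∨ χ ∈ E → okB five avoid (dg χ) = true) :
    ∃ Al : List (IrrCharacter G), (↑Al : Multiset (IrrCharacter G)) = A.val ∧
      Al.map (fun χ => σ χ * (dg χ : ℤ)) ∈ sols := by
  classical
  have := Fintype.ofFinite (IrrCharacter G)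
  have hD := hb.data
  obtain ⟨χe, hχe⟩ := hD.nonempty
  have habs : ∀ χ ∈ A, (σ χ * (dg χ : ℤ)).natAbs = dg χ := fun χ hχ => by
    rcases hD.sign χ hχ with h | h <;> simp [h]
  have hεabs : (ε * (dg χe : ℤ)).natAbs = dg χe := by rcases hD.signE with h | h <;> simp [h]
  have hEd : ∀ χ ∈ E, dg χ = dg χe := fun χ hχ => hb.dgE hχ hχe
  have hdeg := hb.deg_eq hχe
  have hdvd : ∀ χ : IrrCharacter G, dg χ ∣ 443520 := fun χ => hc ▸ charDegree_dvd_card χ
  set X : Multiset ℤ := A.val.map fun χ => σ χ * (dg χ : ℤ) with hX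
  have hXsum : 1 + X.sum = ε * (dg χe : ℤ) := hdeg
  have hsq : 1 + ∑ χ ∈ A, dg χ ^ 2 + (p - 1) / j * dg χe ^ 2 ≤ 443520 := by
    have h1 : oneChar G ∉ A ∪ E := fun hm => (Finset.mem_union.mp hm).elim hD.one_notA hD.one_notE
    have h2 := Finset.sum_le_univ_sum_of_nonneg (s := insert (oneChar G) (A ∪ E))
      (f := fun χ => dg χ ^ 2) (fun _ => Nat.zero_le _)
    rw [Order10200960.sum_dg_sq', hc, Finset.sum_insert h1, Finset.sum_union hD.disj,
      Order10200960.dg_oneChar, one_pow,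
      Finset.sum_congr rfl (s₁ := E) (g := fun _ => dg χe ^ 2) (fun χ hχ => by rw [hEd χ hχ]),
      Finset.sum_const, smul_eq_mul, hD.cardE] at h2
    omega
  have hlt : ∀ d : ℕ, d ^ 2 ≤ 443520 → d < 666 := fun d hd => by
    by_contra hn
    have := Nat.pow_le_pow_left (not_lt.mp hn) 2
    omega
  have hmem : ∀ z ∈ X, z ∈ (degCand 443520 p lo 666).filter fun x => okB five avoid x.natAbs := by
    intro z hz
    obtain ⟨χ, hχ, rfl⟩ := Multiset.mem_map.mp hz
    have hχ' : χ ∈ A := hχ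
    refine List.mem_filter.mpr ⟨List.mem_flatMap.mpr ⟨dg χ, List.mem_range.mpr (hlt _ ?_), ?_⟩, ?_⟩
    · have := Finset.single_le_sum (f := fun ψ => dg ψ ^ 2) (fun _ _ => Nat.zero_le _) hχ'
      omega
    · rw [if_pos ⟨hdvd χ, (hD.degA χ hχ').1⟩, List.mem_append]
      rcases hD.sign χ hχ' with h | h
      · left
        have h2 := (hD.degA χ hχ').2
        rw [h, one_mul] at h2 ⊢
        rw [if_pos h2]
        exact List.mem_singleton.mpr rfl
      · right
        have h2 := (hD.degA χ hχ').2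
        rw [h, neg_one_mul] at h2 ⊢
        rw [if_pos h2]
        exact List.mem_singleton.mpr rfl
    · rw [habs χ hχ']; exact hok χ (Or.inl hχ')
  have hsqX : (X.map fun z => z.natAbs ^ 2).sum = ∑ χ ∈ A, dg χ ^ 2 := by
    rw [hX, Multiset.map_map]
    exact Finset.sum_congr rfl fun χ hχ => by rw [Function.comp_apply, habs χ hχ]
  have hfin : finalBool 443520 p j ((p - 1) / j) lo (1 + X.sum) (1 + (X.map fun z => z.natAbs ^ 2).sum) =
      true := by
    simp only [finalBool, Bool.and_eq_true, decide_eq_true_eq, hXsum, hεabs, hsqX]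
    exact ⟨⟨⟨hdvd χe, (hD.degE χe hχe).1⟩, (hD.degE χe hχe).2⟩, hsq⟩
  have hcard : X.card = j - 1 := by
    have := hD.cardA
    rw [hX, Multiset.card_map, ← Finset.card_def]
    omega
  obtain ⟨l, hl, hlX⟩ := degSols_complete _ (j - 1) 1 1 X hcard hmem hfin
  have hsol : l ∈ sols := by
    have h := List.all_eq_true.mp hcov l hl
    rw [Bool.or_eq_true] at h
    rcases h with h | h
    · rw [← Multiset.sum_coe, hlX, hXsum, hεabs, hok χe (Or.inr hχe)] at h
      simp at h
    · exact List.mem_of_elem_eq_true h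
  obtain ⟨Lp, hL1, hL2⟩ := exists_aligned l (A.val.map fun χ => (σ χ * (dg χ : ℤ), χ)) (by
    rw [Multiset.map_map, hlX]; rfl)
  refine ⟨Lp.map Prod.snd, by rw [← Multiset.map_coe, hL2, Multiset.map_map]; simp, ?_⟩
  convert hsol using 1
  rw [List.map_map, ← hL1]
  refine List.map_congr_left fun q hq => ?_
  have : q ∈ A.val.map fun χ => (σ χ * (dg χ : ℤ), χ) := hL2 ▸ Multiset.mem_coe.mpr hq
  obtain ⟨χ, -, rfl⟩ := Multiset.mem_map.mp this
  rfl

/-- **A principal block as a step of the search.** -/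
theorem exists_block (hc : Nat.card G = 443520) [Fact p.Prime] (hodd : p ≠ 2)
    (hb : Blk p c j lo x L A E σ ε) {t : G} (ht : orderOf t = 2) {C : ℕ}
    (hC : Nat.card (Subgroup.centralizer ({t} : Set G)) = C)
    {u : IrrCharacter G → ℤ} (hu : ∀ χ : IrrCharacter G, (χ : G → ℂ) t = u χ)
    {five : Bool} {avoid : List ℕ} {sp : Spec} (hsp : sp.p = p) (hst : sp.t = (p - 1) / j)
    (hsc : sp.zero = true ∨ sp.c = c) (hcov : coverBool p j lo five avoid sp.sols = true)
    (hok : ∀ χ, χ ∈ A ∨ χ ∈ E → okB five avoid (dg χ) = true)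
    (hK : sp.inK = true → Commute x t)
    (hz : sp.zero = true → ¬ ∃ a, IsConj t a ∧ a * x * a⁻¹ = x⁻¹)
    (hpos : sp.pos = true → ∃ a, IsConj t a ∧ a * x * a⁻¹ = x⁻¹)
    (hcl : sp.classify = true → c = 1) :
    ∃ Al : List (IrrCharacter G), (↑Al : Multiset (IrrCharacter G)) = A.val ∧
      Block sp (parFor C) dg u (fun χ => χ ≠ oneChar G) Al E.toList σ ε := by
  classical
  have := Fintype.ofFinite (IrrCharacter G)
  have hD := hb.data
  obtain ⟨χe, hχe⟩ := hD.nonempty
  have hεε : ε * ε = 1 := by rcases hD.signE with h | h <;> simp [h]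
  have htt : t * t = 1 := by rw [← pow_two, ← ht, pow_orderOf_eq_one]
  have htreg : ¬ p ∣ orderOf t := fun h => by
    rw [ht] at h
    exact hodd ((Nat.prime_dvd_prime_iff_eq Fact.out Nat.prime_two).mp h)
  have hEd : ∀ χ ∈ E, dg χ = dg χe := fun χ hχ => hb.dgE hχ hχe
  have hEu : ∀ χ ∈ E, u χ = u χe := fun χ hχ => by
    have e := hb.eqE hχ hχe htreg
    rw [hu, hu] at e
    exact_mod_cast e
  have hdeg := hb.deg_eq hχe
  have hval : ε * u χe = 1 + ∑ χ ∈ A, σ χ * u χ := by
    have e := hD.rel t htreg χe hχe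
    simp only [hu] at e
    exact_mod_cast e
  obtain ⟨Al, hAl, hsol⟩ := exists_sol hc hb hcov hok
  have hAm : ∀ χ, χ ∈ Al ↔ χ ∈ A := fun χ => by rw [← Multiset.mem_coe, hAl, Finset.mem_val]
  have hsumA : ∀ f : IrrCharacter G → ℤ, (Al.map f).sum = ∑ χ ∈ A, f χ := fun f => by
    rw [← Multiset.sum_coe, ← Multiset.map_coe, hAl]; rfl
  refine ⟨Al, hAl, ?_⟩
  obtain ⟨M, hM⟩ := CentralChar.exists_pModular p
  refine
    { nodup := ?_
      okA := fun χ hχ => hb.ne_one_A ((hAm χ).mp hχ)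
      okE := fun χ hχ => hb.ne_one_E (Finset.mem_toList.mp hχ)
      sign := fun χ hχ => hD.sign χ ((hAm χ).mp hχ)
      signE := hD.signE
      sol := hsol
      lenE := by rw [Finset.length_toList, hD.cardE, hst]
      degE := fun χ hχ => ?_
      valE := fun χ hχ => ?_
      congA := fun hin χ hχ => ?_
      congE := fun hin => ?_
      eqn := ?_
      classified := fun hcl' χ hχ hpd => ?_ }
  · refine List.nodup_append.mpr ⟨?_, E.nodup_toList, fun a ha b hb' e => ?_⟩
    · rw [← Multiset.coe_nodup, hAl]; exact A.nodup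
    · exact Finset.disjoint_left.mp hD.disj ((hAm a).mp ha) (e ▸ Finset.mem_toList.mp hb')
  · rw [hsumA, hEd χ (Finset.mem_toList.mp hχ), hdeg]
  · rw [hsumA, hEu χ (Finset.mem_toList.mp hχ), hval]
  · obtain ⟨k, hk⟩ := hb.set.exists_K_of_regular (hK hin) htreg
    have h := memI_apply_mul_sub hM (χ := χ) (x := x) (y := t) ⟨1, by rw [hb.set.hx, pow_one]⟩ (hK hin)
    rw [hu, hk, hD.valA χ ((hAm χ).mp hχ) k] at h
    have h2 := (intModEq_of_memI hM h).symm.mul_left (σ χ)
    rw [show σ χ * σ χ = 1 by rcases hD.sign χ ((hAm χ).mp hχ) with e | e <;> simp [e]] at h2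
    rw [hsp]
    exact Int.emod_eq_zero_of_dvd (Int.modEq_iff_dvd.mp h2.symm)
  · obtain ⟨k, hk⟩ := hb.set.exists_K_of_regular (hK hin) htreg
    have h := memI_sum hM E (f := fun χ => (χ : G → ℂ) (x * t) - (χ : G → ℂ) t) fun χ _ =>
      memI_apply_mul_sub hM ⟨1, by rw [hb.set.hx, pow_one]⟩ (hK hin)
    rw [Finset.sum_sub_distrib, hk, hD.valE k, ← hk,
      Finset.sum_congr rfl (s₁ := E) (g := fun _ => (u χe : ℂ)) (fun χ hχ => by rw [hu, hEu χ hχ]),
      Finset.sum_const, nsmul_eq_mul, ← Int.cast_natCast, ← Int.cast_mul, ← Int.cast_neg] at h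
    have h2 := (intModEq_of_memI hM h).symm.mul_left ε
    rw [hsumA, ← hval, hst, ← hD.cardE, hsp]
    refine Int.emod_eq_zero_of_dvd ?_
    rw [mul_neg, hεε] at h2
    have h3 := Int.modEq_iff_dvd.mp h2.symm
    rw [show ε * ((E.card : ℤ) * u χe) - -1 = (E.card : ℤ) * (ε * u χe) + 1 by ring] at h3
    exact h3
  · obtain ⟨m, hm1, hm2, hm3⟩ := exists_card_pairs (t := t) hodd hb.set htt
    have hcl' := class_formula hb.set hb.cardK hD u hu hχe (fun χ hχ => ⟨hEd χ hχ, hEu χ hχ⟩)
    rw [hc, hC, hm2, hval, ← hdeg, ← hsumA, ← hsumA, ← hsumA] at hcl'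
    simp only [parFor]
    split_ifs with hzero
    · have : IsEmpty (Pairs x t L) := ⟨fun z => hz hzero
        ⟨_, z.2.2.1, SmallOrders.BlockDegrees.conj_eq_inv_of_pair hb.set htt z⟩⟩
      rw [← hm2, Nat.card_of_isEmpty, Nat.cast_zero, zero_mul] at hcl'
      rw [(mul_eq_zero.mp hcl').resolve_left (Nat.cast_ne_zero.mpr hb.c_pos.ne'), mul_zero]
    · have hsc' := hsc.resolve_left hzero
      refine ⟨m, by rw [hsc', ← hb.cardK]; exact hm1, ?_, fun hp' => hm3 (hpos hp')⟩
      rw [hsc', hcl', hsp]; push_cast; ring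
  · obtain rfl := hcl hcl'
    rw [hsp] at hpd
    rw [List.mem_append, hAm, Finset.mem_toList]
    by_contra hn
    exact hpd (other_dvd hb hχ (fun h => hn (Or.inl h)) (fun h => hn (Or.inr h)))

open Classical in
/-- The weight of a character in the first block. -/
noncomputable def weight (A E : Finset (IrrCharacter G)) (σ : IrrCharacter G → ℤ) (ε : ℤ)
    (χ : IrrCharacter G) : ℤ :=
  if χ ∈ A then (E.card : ℤ) * σ χ else if χ ∈ E then -ε else 0

theorem weight_A {χ : IrrCharacter G} (h : χ ∈ A) : weight A E σ ε χ = E.card * σ χ := if_pos h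

theorem weight_E (hd : Disjoint A E) {χ : IrrCharacter G} (h : χ ∈ E) : weight A E σ ε χ = -ε := by
  classical
  rw [weight, if_neg (Finset.disjoint_right.mp hd h), if_pos h]

theorem weight_other {χ : IrrCharacter G} (h1 : χ ∉ A) (h2 : χ ∉ E) : weight A E σ ε χ = 0 := by
  classical
  rw [weight, if_neg h1, if_neg h2]

theorem sum_weight_mul [Fintype (IrrCharacter G)] (hd : Disjoint A E) (f : IrrCharacter G → ℤ) :
    ∑ χ, weight A E σ ε χ * f χ = ∑ χ ∈ A, (E.card : ℤ) * σ χ * f χ - ∑ χ ∈ E, ε * f χ := by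
  classical
  rw [← Finset.sum_subset (Finset.subset_univ (A ∪ E)) fun χ _ hχ => by
      rw [Finset.mem_union, not_or] at hχ
      rw [weight_other hχ.1 hχ.2, zero_mul],
    Finset.sum_union hd, sub_eq_add_neg, ← Finset.sum_neg_distrib]
  refine congrArg₂ (· + ·) (Finset.sum_congr rfl fun χ hχ => by rw [weight_A hχ])
    (Finset.sum_congr rfl fun χ hχ => by rw [weight_E hd hχ, neg_mul])

/-- With a single exceptional character the section sum is the weight. -/
theorem avg_eq_weight (h : Blk p c j lo x L A E σ ε) (h1 : E.card = 1) {χ : IrrCharacter G}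
    (hne : χ ≠ oneChar G) : avg x L (χ : G → ℂ) = (c : ℂ) * weight A E σ ε χ := by
  classical
  by_cases hA : χ ∈ A
  · rw [h.avg_A hA, weight_A hA, h1]; simp
  by_cases hE : χ ∈ E
  · have h2 := h.sum_avg_E
    obtain ⟨ψ, hψ⟩ := Finset.card_eq_one.mp h1
    have hχψ : χ = ψ := by rw [hψ, Finset.mem_singleton] at hE; exact hE
    rw [hψ, Finset.sum_singleton, ← hχψ] at h2
    rw [h2, weight_E h.data.disj hE]; push_cast; ring
  · rw [h.avg_other hne hA hE, weight_other hA hE]; simp

variable {q c' j' lo' : ℕ} {y : G} {L' : Subgroup G} {A' E' : Finset (IrrCharacter G)}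
  {τ : IrrCharacter G → ℤ} {η : ℤ}

theorem orth_single (h : Blk p c j lo x L A E σ ε) (h' : Blk q c' j' lo' y L' A' E' τ η)
    (hp : ¬ p ∣ Nat.card (Subgroup.centralizer ({y} : Set G))) (h1 : E'.card = 1) :
    ∑ χ ∈ A, (E.card : ℤ) * σ χ * weight A' E' τ η χ - ∑ χ ∈ E, ε * weight A' E' τ η χ =
      -(E.card : ℤ) := by
  obtain ⟨χe, he⟩ := h.data.nonempty
  have h0 := h.joint h' hp he
  rw [Finset.sum_congr rfl fun χ hχ => by rw [avg_eq_weight h' h1 (h.ne_one_A hχ)],
    avg_eq_weight h' h1 (h.ne_one_E he)] at h0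
  have hc0 : (c' : ℂ) ≠ 0 := Nat.cast_ne_zero.mpr h'.c_pos.ne'
  have hE : ∀ χ ∈ E, weight A' E' τ η χ = weight A' E' τ η χe := fun χ hχ => by
    have e := h.avg_eqE h' hp hχ he
    rw [avg_eq_weight h' h1 (h.ne_one_E hχ), avg_eq_weight h' h1 (h.ne_one_E he)] at e
    exact_mod_cast mul_left_cancel₀ hc0 e
  rw [Finset.sum_congr rfl (s₁ := E) (g := fun _ => ε * weight A' E' τ η χe) (fun χ hχ => by rw [hE χ hχ]),
    Finset.sum_const, nsmul_eq_mul]
  apply Int.cast_injective (α := ℂ)
  apply mul_left_cancel₀ hc0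
  push_cast
  simp only [mul_sub, Finset.mul_sum] at h0 ⊢
  rw [Finset.sum_congr rfl (g := fun χ => (E.card : ℂ) * ((σ χ : ℂ) * ((c' : ℂ) * weight A' E' τ η χ)))
    (fun χ _ => by ring), ← Finset.mul_sum]
  linear_combination (E.card : ℂ) * h0

/-- **The relation between two blocks, one with a single exceptional character.** -/
theorem orth_total (h : Blk p c j lo x L A E σ ε) (h' : Blk q c' j' lo' y L' A' E' τ η)
    (hp : ¬ p ∣ Nat.card (Subgroup.centralizer ({y} : Set G)))
    (hq : ¬ q ∣ Nat.card (Subgroup.centralizer ({x} : Set G))) (h1 : E.card = 1 ∨ E'.card = 1) :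
    (E.card : ℤ) * E'.card + (∑ χ ∈ A', (E'.card : ℤ) * τ χ * weight A E σ ε χ -
      ∑ χ ∈ E', η * weight A E σ ε χ) = 0 := by
  classical
  have := Fintype.ofFinite (IrrCharacter G)
  rcases h1 with h1 | h1
  · rw [orth_single h' h hq h1, h1]; simp
  · have e := orth_single h h' hp h1
    rw [← sum_weight_mul h.data.disj] at e
    rw [← sum_weight_mul h'.data.disj, Finset.sum_congr rfl fun χ _ => mul_comm _ _, e, h1]
    simp

/-- **Two blocks share a character.** -/
theorem orth_shared (h : Blk p c j lo x L A E σ ε) (h' : Blk q c' j' lo' y L' A' E' τ η)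
    (hq : ¬ q ∣ Nat.card (Subgroup.centralizer ({x} : Set G))) :
    ∃ χ, (χ ∈ A' ∨ χ ∈ E') ∧ weight A E σ ε χ ≠ 0 := by
  by_contra hn
  push_neg at hn
  have h0 : ∀ χ, χ ∈ A' ∨ χ ∈ E' → avg x L (χ : G → ℂ) = 0 := fun χ hχ => by
    have hne : χ ≠ oneChar G := hχ.elim h'.ne_one_A h'.ne_one_E
    have hw := hn χ hχ
    have hEc : E.card ≠ 0 := Finset.card_ne_zero.mpr h.data.nonempty
    refine h.avg_other hne (fun hA => ?_) (fun hE => ?_)
    · rw [weight_A hA] at hw
      rcases h.data.sign χ hA with s | s <;> simp [s, hEc] at hw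
    · rw [weight_E h.data.disj hE] at hw
      rcases h.data.signE with s | s <;> simp [s] at hw
  obtain ⟨χe, he⟩ := h'.data.nonempty
  have e := h'.joint h hq he
  rw [Finset.sum_eq_zero fun χ hχ => by rw [h0 χ (Or.inl hχ), mul_zero], h0 χe (Or.inr he)] at e
  exact h.c_pos.ne' (by simpa using e)

end Cfsg.Agent.OrderM22.Recog
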