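/-
Local facts on a simple group of order 443520.

Main results (namespace `Cfsg.Agent.OrderM22.Recog`):
* `Loc`, `exists_loc` : centralisers and normalisers at a prime dividing the order once
* `exists_sylow_involution`, `exists_central_in` : central involutions centralising `x`
* `mem_hList` : the possible orders of their centralisers
-/
import Cfsg.Agent.Lib.OrderM22.Recog.Checks
import Cfsg.Agent.Lib.Order10200960.OrdLocal
import Cfsg.Agent.Lib.SmallOrders.BlockDegrees.Criterion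
import Cfsg.Agent.Lib.PGroup.Basic

set_option autoImplicit false

namespace Cfsg.Agent.OrderM22.Recog

open Subgroup Cfsg.Agent.SmallOrders
open Cfsg.Agent.Order10200960 (cnt1 nrm cnt1_le_nrm card_centralizer_const card_centralizer_conj
  exists_orderOf_of_dvd)

variable {G : Type*} [Group G]

/-- The local data at `p`: `|C(x)| = p c` and `|N : C| = j`. -/
def Loc (G : Type*) [Group G] (p j c : ℕ) : Prop :=
  ∀ x : G, orderOf x = p → Nat.card (cnt1 x) = p * c ∧ Nat.card (nrm x) = p * c * j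

variable [Finite G]

theorem Loc.pos {p j c : ℕ} (h : Loc G p j c) {x : G} (hx : orderOf x = p) : 0 < c := by
  rcases Nat.eq_zero_or_pos c with e | e
  · have := (h x hx).1
    rw [e, mul_zero] at this
    exact absurd this Nat.card_pos.ne'
  · exact e

theorem exists_loc [IsSimpleGroup G] (hG : ¬ IsMulCommutative G) (hc : Nat.card G = 443520) {p R : ℕ}
    [Fact p.Prime] {Ls : List (ℕ × ℕ)} (hfac : p ∣ 443520 ∧ ¬ p ∣ 443520 / p)
    (h : BlockDegrees.blockBool 443520 p R Ls = true) :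
    ∃ n j c : ℕ, (n, j) ∈ Ls ∧ p * c * j * n = 443520 ∧ Loc G p j c := by
  obtain ⟨x, j, hmem, hx, hN, hCj⟩ := BlockDegrees.mem_of_blockBool hG hc p R Ls h
  have hq : ∀ Q : Sylow p G, Nat.card (Q : Subgroup G) = p := fun Q => by
    rw [card_sylow_subgroup (e := 1) (m := 443520 / p)
      (by rw [hc, pow_one, Nat.mul_div_cancel' hfac.1]) hfac.2 Q, pow_one]
  obtain ⟨c, hpc⟩ : p ∣ Nat.card (cnt1 x) := hx ▸ orderOf_dvd_natCard _ (mem_centralizer_self x)
  refine ⟨_, j, c, hmem, ?_, fun a ha => ?_⟩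
  · rw [← hpc, hCj, hN]
  · obtain ⟨u, hu⟩ := card_centralizer_const hq hx ha
    refine ⟨by rw [← hu, card_centralizer_conj, hpc], ?_⟩
    obtain ⟨P, hP⟩ := exists_sylow_eq_zpowers hq ha
    have hNa := card_normalizer_mul_card_sylow P
    rw [hP, hc, ← hN] at hNa
    rw [Nat.eq_of_mul_eq_mul_right Nat.card_pos hNa, ← hpc, hCj]

/-- Commuting elements of orders `p` and `q`. -/
theorem Loc.dvd_swap {p j c q j' c' : ℕ} (h : Loc G p j c) (h' : Loc G q j' c') (hp : p.Prime)
    (hq : q.Prime) (hpq : p ≠ q) {x : G} (hx : orderOf x = p) (hd : q ∣ c) : p ∣ c' := by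
  have := Fact.mk hq
  obtain ⟨y, hy, hyo⟩ := exists_orderOf_of_dvd (H := cnt1 x) ((h x hx).1 ▸ dvd_mul_of_dvd_right hd p)
  have h2 : p ∣ q * c' := by
    rw [← (h' y hyo).1, ← hx]
    exact orderOf_dvd_natCard _ (mem_centralizer_singleton_iff.mpr
      (mem_centralizer_singleton_iff.mp hy).symm)
  exact ((hp.dvd_mul).mp h2).resolve_left fun e => hpq ((Nat.prime_dvd_prime_iff_eq hp hq).mp e)

/-- A centraliser of an involution has no element of order 11. -/
theorem centralizer_dvd (hc : Nat.card G = 443520) (h11 : Loc G 11 5 1) {t : G} (ht : orderOf t = 2) :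
    Nat.card (cnt1 t) ∣ 40320 := by
  have h : Nat.card (cnt1 t) ∣ 11 * 40320 :=
    (card_subgroup_dvd_card _).trans (dvd_of_eq (by rw [hc]))
  refine Nat.Coprime.dvd_of_dvd_mul_left ?_ h
  refine ((Nat.Prime.coprime_iff_not_dvd (by norm_num)).mpr fun hd => ?_).symm
  have : Fact (Nat.Prime 11) := ⟨by norm_num⟩
  obtain ⟨w, hw, hwo⟩ := exists_orderOf_of_dvd hd
  have h2 : orderOf t ∣ Nat.card (cnt1 w) := orderOf_dvd_natCard _
    (mem_centralizer_singleton_iff.mpr (mem_centralizer_singleton_iff.mp hw).symm)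
  rw [(h11 w hwo).1, ht] at h2
  norm_num at h2

/-- A nontrivial normal subgroup of a 2-group contains a central involution. -/
theorem exists_central_in {S : Subgroup G} (hS : IsPGroup 2 S) (J : Subgroup S) [J.Normal]
    (hJ : J ≠ ⊥) :
    ∃ i : G, orderOf i = 2 ∧ (∃ hi : i ∈ S, (⟨i, hi⟩ : S) ∈ J) ∧ ∀ s ∈ S, Commute s i := by
  have : Fact (Nat.Prime 2) := ⟨Nat.prime_two⟩
  have h := PGroup.inf_center_ne_bot hS hJ
  have h2 : 2 ∣ Nat.card ↥(J ⊓ center S) := by
    obtain ⟨k, hk⟩ := IsPGroup.iff_card.mp (hS.to_subgroup (J ⊓ center S))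
    rw [hk]
    refine dvd_pow_self 2 fun hk0 => h (eq_bot_of_card_eq _ ?_)
    rw [hk, hk0, pow_zero]
  obtain ⟨⟨⟨i, hi⟩, hiJ, hiZ⟩, hio⟩ := exists_prime_orderOf_dvd_card' 2 h2
  refine ⟨i, ?_, ⟨hi, hiJ⟩, fun s hs => ?_⟩
  · rw [← hio, ← orderOf_coe, ← orderOf_coe]
  · exact congrArg Subtype.val (mem_center_iff.mp hiZ ⟨s, hs⟩)

/-- The centraliser of `x` in a subgroup of its normaliser. -/
theorem centralizer_part {p j c : ℕ} {x : G} (hC : Nat.card (cnt1 x) = p * c)
    (hN : Nat.card (nrm x) = p * c * j) {T : Subgroup G} (hT : T ≤ nrm x) :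
    ((cnt1 x).subgroupOf T).Normal ∧ ((cnt1 x).subgroupOf T).index ∣ j := by
  let θ : nrm x →* MulAut (zpowers x) := (zpowers x).normalizerMonoidHom
  have hk : θ.ker = (cnt1 x).subgroupOf (nrm x) := by
    rw [cnt1, ← centralizer_zpowers]; exact (zpowers x).normalizerMonoidHom_ker
  have hidx : θ.ker.index = j := by
    have h1 := θ.ker.card_mul_index
    conv_lhs at h1 => arg 1; rw [hk, Nat.card_congr (subgroupOfEquivOfLe (cnt1_le_nrm x)).toEquiv, hC]
    exact Nat.eq_of_mul_eq_mul_left (hC ▸ Nat.card_pos) (h1.trans hN)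
  have e : (cnt1 x).subgroupOf T = (θ.comp (inclusion hT)).ker := by
    rw [← MonoidHom.comap_ker, hk]; rfl
  rw [e]
  refine ⟨inferInstance, ?_⟩
  rw [← hidx, Subgroup.index_ker, Subgroup.index_ker]
  refine card_dvd_of_le ?_
  rintro _ ⟨s, rfl⟩
  exact ⟨inclusion hT s, rfl⟩

theorem exists_subgroup_pow {a : ℕ} {H : Subgroup G} (h : 2 ^ a ∣ Nat.card H) :
    ∃ T : Subgroup G, T ≤ H ∧ Nat.card T = 2 ^ a := by
  have : Fact (Nat.Prime 2) := ⟨Nat.prime_two⟩
  obtain ⟨T, hT⟩ := Sylow.exists_subgroup_card_pow_prime (G := H) 2 h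
  exact ⟨T.map H.subtype, map_subtype_le _, by
    rw [← Nat.card_congr (T.equivMapOfInjective _ H.subtype_injective).toEquiv, hT]⟩

/-- A central involution of a 2-subgroup of the normaliser centralises `x`. -/
theorem exists_sylow_involution {p j c a : ℕ} {x : G} (hC : Nat.card (cnt1 x) = p * c)
    (hN : Nat.card (nrm x) = p * c * j) {T : Subgroup G} (hT : T ≤ nrm x)
    (hTc : Nat.card T = 2 ^ a) (ha : ¬ 2 ^ a ∣ j) :
    ∃ i : G, orderOf i = 2 ∧ Commute x i ∧ ∀ s ∈ T, Commute s i := by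
  have : Fact (Nat.Prime 2) := ⟨Nat.prime_two⟩
  obtain ⟨hn, hd⟩ := centralizer_part hC hN hT
  obtain ⟨i, hio, ⟨hi, hiC⟩, his⟩ := exists_central_in (IsPGroup.of_card (n := a) hTc)
    ((cnt1 x).subgroupOf T) (fun e => ha (by rwa [e, index_bot, hTc] at hd))
  exact ⟨i, hio, (mem_centralizer_singleton_iff.mp (mem_subgroupOf.mp hiC)).symm, his⟩

/-- The order of the centraliser of such an involution. -/
theorem mem_hList [IsSimpleGroup G] (hc : Nat.card G = 443520) (h11 : Loc G 11 5 1) {p a n : ℕ}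
    [Fact p.Prime] (hp : ¬ p ^ 2 ∣ 443520) (hodd : p ≠ 2) {x i : G} (hx : orderOf x = p)
    (hi : orderOf i = 2) (hxi : Commute x i) {T : Subgroup G} (hT : T ≤ nrm x)
    (hTc : Nat.card T = 2 ^ a) (hTi : ∀ s ∈ T, Commute s i) (hN : Nat.card (nrm x) = n) {Ns : List ℕ}
    (hNs : ((List.range (n + 1)).all fun m =>
      !(Nat.beq (n % m) 0 && Nat.beq (m % (2 ^ a * p)) 0) || Ns.elem m) = true) :
    Nat.card (cnt1 i) ∈ hList p Ns := by
  have hpp : p.Prime := Fact.out
  obtain ⟨k, hk1, hk2, -⟩ := Order95040.card_inf_normalizer_mul hx (hc.symm ▸ hp) (cnt1 i)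
    (mem_centralizer_singleton_iff.mpr hxi.eq)
  set m := Nat.card ↥(cnt1 i ⊓ nrm x)
  have hm1 : m ∣ n := hN ▸ card_dvd_of_le inf_le_right
  have hm2 : 2 ^ a * p ∣ m := by
    refine Nat.Coprime.mul_dvd_of_dvd_of_dvd ?_ ?_ ?_
    · exact (((Nat.coprime_primes Nat.prime_two hpp).mpr (Ne.symm hodd))).pow_left a
    · rw [← hTc]
      exact card_dvd_of_le (le_inf (fun s hs => mem_centralizer_singleton_iff.mpr (hTi s hs).eq) hT)
    · rw [← hx]
      exact orderOf_dvd_natCard _ ⟨mem_centralizer_singleton_iff.mpr hxi.eq,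
        le_normalizer (mem_zpowers x)⟩
  have hn0 : 0 < n := hN ▸ Nat.card_pos
  have hmn : m ≤ n := Nat.le_of_dvd hn0 hm1
  have hNs' := List.all_eq_true.mp hNs m (List.mem_range.mpr (by omega))
  rw [Nat.mod_eq_zero_of_dvd hm1, Nat.mod_eq_zero_of_dvd hm2] at hNs'
  have h40 := centralizer_dvd hc h11 hi
  rw [← hk1] at h40 ⊢
  refine List.mem_flatMap.mpr ⟨m, List.mem_of_elem_eq_true (by simpa using hNs'),
    List.mem_map.mpr ⟨k, List.mem_filter.mpr ⟨List.mem_range.mpr ?_, ?_⟩, rfl⟩⟩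
  · refine Nat.lt_succ_of_le ((Nat.le_div_iff_mul_le Nat.card_pos).mpr ?_)
    rw [mul_comm]
    exact Nat.le_of_dvd (by norm_num) h40
  · rw [hk2, Nat.mod_eq_zero_of_dvd h40]; rfl

/-- A subgroup of small index in a 2-group contains a central involution of it. -/
theorem exists_central_of_index {S J : Subgroup G} (hS : IsPGroup 2 S) {m : ℕ}
    (hidx : (J.subgroupOf S).index ∣ m) (hbig : ¬ Nat.card S ∣ Nat.factorial m) (hm : 0 < m) :
    ∃ i : G, orderOf i = 2 ∧ i ∈ J ∧ ∀ s ∈ S, Commute s i := by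
  have hcore : (J.subgroupOf S).normalCore ≠ ⊥ := fun e => hbig (by
    have h := (MulAction.toPermHom S (S ⧸ J.subgroupOf S)).ker.card_mul_index
    rw [← normalCore_eq_ker, e, card_bot, one_mul] at h
    rw [← h, ← e, normalCore_eq_ker, index_ker]
    refine (card_subgroup_dvd_card _).trans ?_
    rw [Nat.card_perm, ← index_eq_card]
    exact Nat.factorial_dvd_factorial (Nat.le_of_dvd hm hidx))
  obtain ⟨i, hio, ⟨hi, hiJ⟩, his⟩ := exists_central_in hS _ hcore
  exact ⟨i, hio, mem_subgroupOf.mp (normalCore_le _ hiJ), his⟩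

end Cfsg.Agent.OrderM22.Recog
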