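/-
The centralisers of the elements of order 11.

Main results (namespace `Cfsg.Agent.OrderM22.Recog`):
* `blocks5`, `blocks7`, `blocks11` : the configurations left by the degree equation
* `ok_member`, `block_false` : restrictions on the degrees in a principal block
* `eleven` : `|C(x)| = 11` and `|N : C| = 5`
-/
import Cfsg.Agent.Lib.OrderM22.Recog.Facts
import Cfsg.Agent.Lib.OrderM22.Recog.Local

set_option autoImplicit false
set_option maxRecDepth 100000

namespace Cfsg.Agent.OrderM22.Recog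

open Cfsg Cfsg.Agent.Blocks Cfsg.Agent.CyclicDefect Subgroup
open Cfsg.Agent.SmallOrders.BlockDegrees (blockBool oneChar)
open Cfsg.Agent.Order10200960 (Blk exists_blk cnt1 nrm exists_orderOf_of_dvd)
open Cfsg.Agent.OrderM22 (dg)

theorem blocks11 : blockBool 443520 11 666
    [(144, 5), (144, 10), (672, 5), (672, 10), (8064, 5)] = true := by decide +kernel

theorem blocks7 : blockBool 443520 7 666
    [(99, 2), (120, 2), (120, 3), (120, 6), (176, 2), (176, 3), (176, 6), (288, 2), (330, 2), (330, 3),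
      (330, 6), (792, 2), (960, 2), (960, 3), (960, 6), (1408, 3), (2640, 2), (2640, 3), (2640, 6),
      (6336, 2), (21120, 3)] = true := by decide +kernel

theorem blocks5 : blockBool 443520 5 666
    [(56, 2), (56, 4), (66, 2), (66, 4), (96, 2), (96, 4), (126, 2), (126, 4), (176, 2), (176, 4),
      (231, 2), (231, 4), (336, 2), (336, 4), (396, 2), (396, 4), (576, 2), (616, 2), (616, 4),
      (1056, 2), (1056, 4), (1386, 2), (1386, 4), (2016, 2), (2016, 4), (3696, 2), (3696, 4),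
      (6336, 2), (22176, 2), (22176, 4)] = true := by decide +kernel

theorem cover144 : coverBool 11 5 22 false [7] [] = true := by decide +kernel

theorem cover672five : coverBool 11 5 22 false [9] [] = true := by decide +kernel

theorem cover672ten : coverBool 11 10 22 false [9] [] = true := by decide +kernel

variable {G : Type*} [Group G] [Finite G] [IsSimpleGroup G]

theorem okB_nil_iff {five : Bool} {avoid : List ℕ} {d : ℕ} :
    okB five avoid d = true ↔ okB five [] d = true ∧ ∀ v ∈ avoid, ¬ v ∣ d := by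
  simp only [okB, List.all_nil, Bool.and_true, Bool.and_eq_true, List.all_eq_true, Bool.not_eq_true',
    Nat.dvd_iff_mod_eq_zero]
  refine and_congr_right fun _ => forall₂_congr fun v _ => ?_
  rw [Bool.eq_false_iff, ne_eq, Nat.beq_eq]

variable {p c j lo : ℕ} {x : G} {L : Subgroup G} {A E : Finset (IrrCharacter G)}
  {σ : IrrCharacter G → ℤ} {ε : ℤ}

/-- The members avoid the full degrees at the primes dividing `c`. -/
theorem ok_member (hc : Nat.card G = 443520) (hb : Blk p c j lo x L A E σ ε) {five : Bool}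
    {avoid : List ℕ}
    (hres : ∀ χ, χ ∈ A ∨ χ ∈ E → okB five [] (dg χ) = true)
    (hav : ∀ v ∈ avoid, ∃ q k, q.Prime ∧ v = q ^ k ∧ q ∣ c ∧ ¬ q ^ (k + 1) ∣ 443520)
    {χ : IrrCharacter G} (hχ : χ ∈ A ∨ χ ∈ E) : okB five avoid (dg χ) = true :=
  okB_nil_iff.mpr ⟨hres χ hχ, fun v hv => by
    obtain ⟨q, k, hq, rfl, hqc, hk⟩ := hav v hv
    exact not_dvd_member hb hq hqc (hc.symm ▸ hk) hχ⟩

/-- The residues in the principal block at 11. -/
theorem res_eleven (hb : Blk 11 c j lo x L A E σ ε) (hj : j = 5 ∨ j = 10) {χ : IrrCharacter G}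
    (hχ : χ ∈ A ∨ χ ∈ E) : okB false [] (dg χ) = true := by
  simp only [okB, List.all_nil, Bool.and_true, Bool.not_false, Bool.true_or, List.elem_iff,
    List.mem_cons, List.not_mem_nil, or_false]
  rcases hχ with h | h
  · have h2 := (hb.data.degA χ h).2
    rcases hb.data.sign χ h with s | s <;> rw [s] at h2 <;> simp only [dg] <;> omega
  · have h2 := (hb.data.degE χ h).2
    rcases hb.data.signE with s | s <;> rw [s] at h2 <;> rcases hj with rfl | rfl <;>
      simp only [dg] <;> omega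

theorem exists_blk' (hc : Nat.card G = 443520) [Fact p.Prime] (hodd : p ≠ 2) (hsq : ¬ p ^ 2 ∣ 443520)
    (h : Loc G p j c) (hx : orderOf x = p) (hlo : lo ≤ 2 ∨ (1 < c ∧ lo ≤ 2 * p)) :
    ∃ (L : Subgroup G) (A E : Finset (IrrCharacter G)) (σ : IrrCharacter G → ℤ) (ε : ℤ),
      Blk p c j lo x L A E σ ε :=
  exists_blk (not_comm hc) hodd hx (hc.symm ▸ hsq) (h x hx).1 (h x hx).2 hlo

/-- The Sylow 7-subgroup of `C(x)` for `|C(x)| = 11 · 28`. -/
theorem nrm_le (hc : Nat.card G = 443520) (hC : Nat.card (cnt1 x) = 11 * 28) (hx : orderOf x = 11) :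
    ∃ y : G, orderOf y = 7 ∧ nrm x ≤ nrm y := by
  have : Fact (Nat.Prime 11) := ⟨by norm_num⟩
  have : Fact (Nat.Prime 7) := ⟨by norm_num⟩
  obtain ⟨L, hS⟩ := exists_setting (p := 11) (by norm_num) hx (hc.symm ▸ by norm_num)
  have hK : Nat.card (K x L) = 28 := by
    have := hS.card_centralizer.symm.trans hC
    omega
  obtain ⟨k, hk⟩ := exists_prime_orderOf_dvd_card' (G := K x L) 7 (hK.symm ▸ by norm_num)
  have hq : ∀ Q : Sylow 7 (K x L), Nat.card (Q : Subgroup (K x L)) = 7 := fun Q => by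
    rw [SmallOrders.card_sylow_subgroup (e := 1) (m := 4) (by rw [hK]; norm_num) (by norm_num) Q, pow_one]
  have h1 : Nat.card (Sylow 7 (K x L)) = 1 := by
    have hd : Nat.card (Sylow 7 (K x L)) ∣ 4 :=
      SmallOrders.index_sylow (p := 7) (e := 1) (m := 4) (by rw [hK]; norm_num) (by norm_num)
        (default : Sylow 7 (K x L)) ▸ (default : Sylow 7 (K x L)).card_dvd_index
    have hm := card_sylow_modEq_one 7 (K x L)
    unfold Nat.ModEq at hm
    have := Nat.le_of_dvd (by norm_num) hd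
    omega
  set y : G := ((k : L) : G)
  have hy : orderOf y = 7 := by rw [Subgroup.orderOf_coe, Subgroup.orderOf_coe, hk]
  refine ⟨y, hy, fun g hg => mem_normalizer_fintype fun z hz => ?_⟩
  obtain ⟨i, rfl⟩ := mem_zpowers_iff.mp hz
  rw [← conj_zpow]
  refine zpow_mem ?_ i
  have hgx : g⁻¹ * x * g ∈ zpowers x := by
    have := (mem_normalizer_iff.mp (inv_mem hg) x).mp (mem_zpowers x)
    rwa [inv_inv] at this
  have hcomm : Commute x (g * y * g⁻¹) := by
    obtain ⟨n, hn⟩ := mem_zpowers_iff.mp hgx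
    have h2 : Commute (g⁻¹ * x * g) y := hn ▸ (hS.commute_K k).zpow_left n
    have h3 := (Commute.conj_iff g).mpr h2
    rwa [show g * (g⁻¹ * x * g) * g⁻¹ = x by group] at h3
  obtain ⟨k', hk'⟩ := hS.exists_K_of_regular hcomm (by rw [SecondMain.orderOf_conj, hy]; norm_num)
  have hk'o : orderOf k' = 7 := by
    rw [← Subgroup.orderOf_coe, ← Subgroup.orderOf_coe, ← hk', SecondMain.orderOf_conj, hy]
  obtain ⟨n, hn⟩ := mem_zpowers_iff.mp (Order95040.mem_zpowers_of_unique hq h1 hk hk'o)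
  exact mem_zpowers_iff.mpr ⟨n, by rw [hk', ← hn]; simp [y]⟩

/-- **The elements of order 11.** -/
theorem eleven (hc : Nat.card G = 443520) : Loc G 11 5 1 := by
  have : Fact (Nat.Prime 11) := ⟨by norm_num⟩
  have : Fact (Nat.Prime 7) := ⟨by norm_num⟩
  have hG := not_comm hc
  obtain ⟨n, j, c, hmem, hn, hloc⟩ := exists_loc hG hc ⟨by norm_num, by norm_num⟩ blocks11
  obtain ⟨x, hx⟩ := exists_prime_orderOf_dvd_card' (G := G) 11 (by rw [hc]; norm_num)
  have kill : ∀ v, (∃ q k, q.Prime ∧ v = q ^ k ∧ q ∣ c ∧ ¬ q ^ (k + 1) ∣ 443520) → j = 5 ∨ j = 10 →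
      1 < c → coverBool 11 j 22 false [v] [] = true → False := by
    intro v hv hj hc1 hcov
    obtain ⟨L, A, E, σ, ε, hb⟩ := exists_blk' (lo := 22) hc (by norm_num) (by norm_num) hloc hx
      (Or.inr ⟨hc1, le_rfl⟩)
    obtain ⟨Al, -, hsol⟩ := exists_sol hc hb hcov fun χ hχ =>
      ok_member hc hb (fun ψ hψ => res_eleven hb hj hψ) (by simpa using hv) hχ
    exact absurd hsol (List.not_mem_nil)
  simp only [List.mem_cons, Prod.mk.injEq, List.not_mem_nil, or_false] at hmem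
  rcases hmem with ⟨rfl, rfl⟩ | ⟨rfl, rfl⟩ | ⟨rfl, rfl⟩ | ⟨rfl, rfl⟩ | ⟨rfl, rfl⟩
  · obtain rfl : c = 56 := by omega
    exact (kill 7 ⟨7, 1, by norm_num, by norm_num, by norm_num, by norm_num⟩ (Or.inl rfl) (by norm_num)
      cover144).elim
  · exfalso
    obtain rfl : c = 28 := by omega
    obtain ⟨hC, hN⟩ := hloc x hx
    obtain ⟨y, hy, hle⟩ := nrm_le hc hC hx
    obtain ⟨n', j', c', hmem', hn', hloc'⟩ := exists_loc hG hc ⟨by norm_num, by norm_num⟩ blocks7
    have hd := card_dvd_of_le hle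
    rw [hN, (hloc' y hy).2] at hd
    have hd2 : 11 * 28 * 10 * n' ∣ 443520 := hn' ▸ Nat.mul_dvd_mul_right hd n'
    simp only [List.mem_cons, Prod.mk.injEq, List.not_mem_nil, or_false] at hmem'
    rcases hmem' with ⟨rfl, -⟩ | ⟨rfl, -⟩ | ⟨rfl, -⟩ | ⟨rfl, -⟩ | ⟨rfl, -⟩ | ⟨rfl, -⟩ | ⟨rfl, -⟩ |
      ⟨rfl, -⟩ | ⟨rfl, -⟩ | ⟨rfl, -⟩ | ⟨rfl, -⟩ | ⟨rfl, -⟩ | ⟨rfl, -⟩ | ⟨rfl, -⟩ | ⟨rfl, -⟩ |
      ⟨rfl, -⟩ | ⟨rfl, -⟩ | ⟨rfl, -⟩ | ⟨rfl, -⟩ | ⟨rfl, -⟩ | ⟨rfl, -⟩ <;> norm_num at hd2
  · obtain rfl : c = 12 := by omega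
    exact (kill 9 ⟨3, 2, by norm_num, by norm_num, by norm_num, by norm_num⟩ (Or.inl rfl) (by norm_num)
      cover672five).elim
  · obtain rfl : c = 6 := by omega
    exact (kill 9 ⟨3, 2, by norm_num, by norm_num, by norm_num, by norm_num⟩ (Or.inr rfl) (by norm_num)
      cover672ten).elim
  · obtain rfl : c = 1 := by omega
    exact hloc

end Cfsg.Agent.OrderM22.Recog
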