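/-
The centralisers of the elements of order 7.

Main results (namespace `Cfsg.Agent.OrderM22.Recog`):
* `res_all` : the residues of all degrees
* `seven` : `(|N : C|, |C(y)| / 7)` is one of `(3, 8)`, `(6, 4)`, `(3, 1)`
-/
import Cfsg.Agent.Lib.OrderM22.Recog.Eleven

set_option autoImplicit false
set_option maxRecDepth 100000

namespace Cfsg.Agent.OrderM22.Recog

open Cfsg Cfsg.Agent.Blocks Cfsg.Agent.CyclicDefect Subgroup
open Cfsg.Agent.SmallOrders.BlockDegrees (oneChar)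
open Cfsg.Agent.Order10200960 (Blk exists_blk cnt1 nrm exists_orderOf_of_dvd cnt1_le_nrm)
open Cfsg.Agent.OrderM22 (dg)

theorem cover72 : coverBool 7 2 14 false [] [] = true := by decide +kernel

theorem cover73noFive : coverBool 7 3 14 false [9, 5] [] = true := by decide +kernel

theorem cover76noFive : coverBool 7 6 14 false [128, 9, 5] [] = true := by decide +kernel

theorem cover73noFive' : coverBool 7 3 14 false [128, 9, 5] [] = true := by decide +kernel

theorem hList_330 : ∀ h ∈ hList 7 [448, 1344], h % 128 ≠ 0 := by decide +kernel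

variable {G : Type*} [Group G] [Finite G] [IsSimpleGroup G]

/-- The residues modulo 11 of all degrees. -/
theorem res_all (hc : Nat.card G = 443520) (χ : IrrCharacter G) : okB false [] (dg χ) = true := by
  have : Fact (Nat.Prime 11) := ⟨by norm_num⟩
  obtain ⟨x, hx⟩ := exists_prime_orderOf_dvd_card' (G := G) 11 (by rw [hc]; norm_num)
  obtain ⟨L, A, E, σ, ε, hb⟩ := exists_blk' (lo := 2) hc (by norm_num) (by norm_num) (eleven hc) hx
    (Or.inl le_rfl)
  by_cases hm : χ ∈ A ∨ χ ∈ E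
  · exact res_eleven hb (Or.inl rfl) hm
  by_cases h1 : χ = oneChar G
  · rw [h1, Order10200960.dg_oneChar]; rfl
  · rw [not_or] at hm
    have hd := other_dvd hb h1 hm.1 hm.2
    simp [okB, Nat.mod_eq_zero_of_dvd hd]

/-- The case `n₇ = 330`. -/
theorem not_330 (hc : Nat.card G = 443520) {j c : ℕ} (hj : j = 3 ∧ c = 64 ∨ j = 6 ∧ c = 32)
    (h : Loc G 7 j c) : False := by
  have : Fact (Nat.Prime 7) := ⟨by norm_num⟩
  have : Fact (Nat.Prime 2) := ⟨Nat.prime_two⟩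
  obtain ⟨y, hy⟩ := exists_prime_orderOf_dvd_card' (G := G) 7 (by rw [hc]; norm_num)
  obtain ⟨hC, hN⟩ := h y hy
  have hN' : Nat.card (nrm y) = 1344 := by rcases hj with ⟨rfl, rfl⟩ | ⟨rfl, rfl⟩ <;> exact hN
  obtain ⟨T, hT, hTc⟩ := exists_subgroup_pow (a := 6) (H := nrm y) (by rw [hN']; norm_num)
  obtain ⟨-, hd⟩ := centralizer_part hC hN hT
  obtain ⟨S, hTS⟩ := (IsPGroup.of_card (p := 2) (n := 6) hTc).exists_le_sylow
  have hSc : Nat.card (S : Subgroup G) = 128 := by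
    rw [SmallOrders.card_sylow_subgroup (e := 7) (m := 3465) (by rw [hc]; norm_num) (by norm_num) S]
    norm_num
  have hJT : Nat.card ↥(cnt1 y ⊓ T) = Nat.card ((cnt1 y).subgroupOf T) := by
    rw [← inf_subgroupOf_right, Nat.card_congr (subgroupOfEquivOfLe inf_le_right).toEquiv]
  have h1 := ((cnt1 y).subgroupOf T).card_mul_index
  rw [hTc, ← hJT] at h1
  have hidx2 : ((cnt1 y).subgroupOf T).index ∣ 2 := by
    have h2 : ((cnt1 y).subgroupOf T).index ∣ Nat.gcd 64 6 := by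
      refine Nat.dvd_gcd ⟨Nat.card ↥(cnt1 y ⊓ T), by rw [mul_comm, h1]; norm_num⟩ ?_
      rcases hj with ⟨rfl, -⟩ | ⟨rfl, -⟩
      · exact hd.trans (by norm_num)
      · exact hd
    exact h2
  have hle : (cnt1 y ⊓ T) ≤ S := inf_le_right.trans hTS
  have h3 := ((cnt1 y ⊓ T).subgroupOf (S : Subgroup G)).card_mul_index
  rw [hSc, Nat.card_congr (subgroupOfEquivOfLe hle).toEquiv] at h3
  have hidxS : ((cnt1 y ⊓ T).subgroupOf (S : Subgroup G)).index ∣ 4 := by
    obtain ⟨k, hk⟩ := hidx2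
    refine ⟨k, Nat.eq_of_mul_eq_mul_left (show 0 < Nat.card ↥(cnt1 y ⊓ T) from Nat.card_pos) ?_⟩
    rw [← mul_assoc, h3, show 128 * k = 2 * (2 ^ 6 * k) by ring, ← h1, mul_assoc, ← hk]
    ring
  obtain ⟨i, hio, ⟨hiC, -⟩, hiS⟩ := exists_central_of_index S.isPGroup' hidxS
    (by rw [hSc]; decide +kernel) (by norm_num)
  have hyi : Commute y i := (mem_centralizer_singleton_iff.mp hiC).symm
  have hmem := mem_hList hc (eleven hc) (by norm_num) (by norm_num) hy hio hyi hT hTc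
    (fun s hs => hiS s (hTS hs)) hN' (Ns := [448, 1344]) (by decide +kernel)
  refine hList_330 _ hmem (Nat.mod_eq_zero_of_dvd ?_)
  rw [← hSc]
  exact card_dvd_of_le fun s hs => mem_centralizer_singleton_iff.mpr (hiS s hs).eq

/-- **The elements of order 7.** -/
theorem seven (hc : Nat.card G = 443520) : Loc G 7 3 8 ∨ Loc G 7 6 4 ∨ Loc G 7 3 1 := by
  have : Fact (Nat.Prime 7) := ⟨by norm_num⟩
  obtain ⟨n, j, c, hmem, hn, h⟩ := exists_loc (not_comm hc) hc ⟨by norm_num, by norm_num⟩ blocks7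
  obtain ⟨y, hy⟩ := exists_prime_orderOf_dvd_card' (G := G) 7 (by rw [hc]; norm_num)
  have k11 : 11 ∣ c → False := fun hd => by
    have := h.dvd_swap (eleven hc) (by norm_num) (by norm_num) (by norm_num) hy hd
    norm_num at this
  have kill : ∀ avoid : List ℕ, coverBool 7 j 14 false avoid [] = true → 1 < c →
      (∀ v ∈ avoid, ∃ q k, q.Prime ∧ v = q ^ k ∧ q ∣ c ∧ ¬ q ^ (k + 1) ∣ 443520) → False := by
    intro avoid hcov hc1 hav
    obtain ⟨L, A, E, σ, ε, hb⟩ := exists_blk' (lo := 14) hc (by norm_num) (by norm_num) h hy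
      (Or.inr ⟨hc1, le_rfl⟩)
    obtain ⟨Al, -, hsol⟩ := exists_sol hc hb hcov fun χ hχ =>
      ok_member hc hb (fun ψ _ => res_all hc ψ) hav hχ
    exact absurd hsol (List.not_mem_nil)
  have two : j = 2 → 1 < c → False := fun e hc1 =>
    kill [] (e ▸ cover72) hc1 (by simp)
  have w128 : 2 ∣ c → ∃ q k, q.Prime ∧ 128 = q ^ k ∧ q ∣ c ∧ ¬ q ^ (k + 1) ∣ 443520 := fun hd =>
    ⟨2, 7, by norm_num, by norm_num, hd, by norm_num⟩
  have w9 : 3 ∣ c → ∃ q k, q.Prime ∧ 9 = q ^ k ∧ q ∣ c ∧ ¬ q ^ (k + 1) ∣ 443520 := fun hd =>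
    ⟨3, 2, by norm_num, by norm_num, hd, by norm_num⟩
  have w5 : 5 ∣ c → ∃ q k, q.Prime ∧ 5 = q ^ k ∧ q ∣ c ∧ ¬ q ^ (k + 1) ∣ 443520 := fun hd =>
    ⟨5, 1, by norm_num, by norm_num, hd, by norm_num⟩
  simp only [List.mem_cons, Prod.mk.injEq, List.not_mem_nil, or_false] at hmem
  rcases hmem with ⟨rfl, rfl⟩ | ⟨rfl, rfl⟩ | ⟨rfl, rfl⟩ | ⟨rfl, rfl⟩ | ⟨rfl, rfl⟩ | ⟨rfl, rfl⟩ |
    ⟨rfl, rfl⟩ | ⟨rfl, rfl⟩ | ⟨rfl, rfl⟩ | ⟨rfl, rfl⟩ | ⟨rfl, rfl⟩ | ⟨rfl, rfl⟩ | ⟨rfl, rfl⟩ |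
    ⟨rfl, rfl⟩ | ⟨rfl, rfl⟩ | ⟨rfl, rfl⟩ | ⟨rfl, rfl⟩ | ⟨rfl, rfl⟩ | ⟨rfl, rfl⟩ | ⟨rfl, rfl⟩ |
    ⟨rfl, rfl⟩
  · exact (two rfl (by omega)).elim
  · exact (k11 ⟨24, by omega⟩).elim
  · exact (k11 ⟨16, by omega⟩).elim
  · exact (k11 ⟨8, by omega⟩).elim
  · exact (two rfl (by omega)).elim
  · obtain rfl : c = 120 := by omega
    exact (kill _ cover73noFive' (by norm_num) (by
      simp only [List.mem_cons, List.not_mem_nil, or_false, forall_eq_or_imp, forall_eq]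
      exact ⟨w128 (by norm_num), w9 (by norm_num), w5 (by norm_num)⟩)).elim
  · obtain rfl : c = 60 := by omega
    exact (kill _ cover76noFive (by norm_num) (by
      simp only [List.mem_cons, List.not_mem_nil, or_false, forall_eq_or_imp, forall_eq]
      exact ⟨w128 (by norm_num), w9 (by norm_num), w5 (by norm_num)⟩)).elim
  · exact (k11 ⟨10, by omega⟩).elim
  · exact (two rfl (by omega)).elim
  · exact (not_330 hc (Or.inl ⟨rfl, by omega⟩) h).elim
  · exact (not_330 hc (Or.inr ⟨rfl, by omega⟩) h).elim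
  · exact (two rfl (by omega)).elim
  · exact (k11 ⟨3, by omega⟩).elim
  · exact (k11 ⟨2, by omega⟩).elim
  · exact (k11 ⟨1, by omega⟩).elim
  · obtain rfl : c = 15 := by omega
    exact (kill _ cover73noFive (by norm_num) (by
      simp only [List.mem_cons, List.not_mem_nil, or_false, forall_eq_or_imp, forall_eq]
      exact ⟨w9 (by norm_num), w5 (by norm_num)⟩)).elim
  · exact (two rfl (by omega)).elim
  · obtain rfl : c = 8 := by omega
    exact Or.inl h
  · obtain rfl : c = 4 := by omega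
    exact Or.inr (Or.inl h)
  · exact (two rfl (by omega)).elim
  · obtain rfl : c = 1 := by omega
    exact Or.inr (Or.inr h)

end Cfsg.Agent.OrderM22.Recog
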