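/-
The principal blocks as successive steps of the searches.

Main results (namespace `Cfsg.Agent.OrderM22.Recog`):
* `env_wide`, `block_wide` : the parameters common to all centralisers
* `next_of_fromSt` : from a listed state, up to order
* `step` : a further block
* `false_last11` : the last step at 11
-/
import Cfsg.Agent.Lib.OrderM22.Recog.Seven

set_option autoImplicit false

namespace Cfsg.Agent.OrderM22.Recog

open Cfsg Cfsg.Agent.Blocks Cfsg.Agent.CyclicDefect Subgroup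
open Cfsg.Agent.SmallOrders.BlockDegrees (oneChar)
open Cfsg.Agent.Order10200960 (Blk avg exists_blk cnt1 nrm false_of_inverted)
open Cfsg.Agent.OrderM22 (dg)

section lists

variable {ι : Type*} {d : ι → ℕ} {u W : ι → ℤ} {ok : ι → Prop}

theorem env_wide {C : ℕ} (hC : C ≤ 40320) (hE : Env (parFor C) d u ok) : Env parWide d u ok where
  bound := fun s hs => (hE.bound s hs).trans hC
  root := by decide
  lt := hE.lt
  four := hE.four
  mods := fun _ _ pm hpm => by simp [parWide] at hpm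

theorem block_wide {C : ℕ} {sp : Spec} (hz : sp.zero = true) {A E : List ι} {σ : ι → ℤ} {ε : ℤ}
    (B : Block sp (parFor C) d u ok A E σ ε) : Block sp parWide d u ok A E σ ε :=
  { B with
    eqn := by
      have h := B.eqn
      simp only [parFor, hz, if_pos] at h
      simp only [parWide, hz, if_pos]
      exact h }

theorem next_of_fromSt {C : ℕ} (hE : Env (parFor C) d u ok) {l : List ι} (hn : l.Nodup)
    (hok : ∀ χ ∈ l, ok χ) {st : List (List Entry × ℕ)}
    (hmem : memSt st (entsOf d u W l) (qOf u l) = true) {next : List Entry → ℕ → Bool}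
    (h : fromSt st C next = true) :
    ∃ l₂ : List ι, l₂.Perm l ∧ next (entsOf d u W l₂) (qOf u l₂) = true := by
  simp only [memSt, List.any_eq_true, Bool.and_eq_true, Nat.beq_eq, List.isPerm_iff] at hmem
  obtain ⟨s, hs, e2, e1⟩ := hmem
  obtain ⟨Lp, hL1, hL2⟩ := SmallOrders.BlockDegrees.exists_aligned s.1
    ((↑l : Multiset ι).map fun χ => (((d χ, u χ, W χ) : Entry), χ)) (by
      rw [Multiset.map_map, Multiset.map_coe, Multiset.coe_eq_coe]
      exact e1.symm)
  have hperm : (Lp.map Prod.snd).Perm l := by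
    rw [← Multiset.coe_eq_coe, ← Multiset.map_coe, hL2, Multiset.map_map]; simp
  have hents : entsOf d u W (Lp.map Prod.snd) = s.1 := by
    rw [← hL1, entsOf, List.map_map]
    refine List.map_congr_left fun q hq => ?_
    have : q ∈ (↑l : Multiset ι).map fun χ => (((d χ, u χ, W χ) : Entry), χ) :=
      hL2 ▸ Multiset.mem_coe.mpr hq
    obtain ⟨χ, -, rfl⟩ := Multiset.mem_map.mp this
    rfl
  have hqe : qOf u (Lp.map Prod.snd) = qOf u l := by
    rw [qOf, qOf, (hperm.map _).sum_eq]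
  refine ⟨_, hperm, ?_⟩
  rw [hents, hqe, ← e2]
  have h1 := List.all_eq_true.mp h s hs
  have hn2 := hperm.nodup_iff.mpr hn
  have hok2 : ∀ χ ∈ Lp.map Prod.snd, ok χ := fun χ hχ => hok χ (hperm.mem_iff.mp hχ)
  have hq : ¬ C < s.2 := not_lt.mpr (e2 ▸ hqe ▸ qOf_le hE hn2 hok2)
  have hm : (s.1.all fun e => modsOk (modsFor C) e.1 e.2.1) = true := by
    rw [← hents, List.all_eq_true]
    intro e he
    obtain ⟨χ, hχ, rfl⟩ := List.mem_map.mp he
    exact modsOk_of hE (hok2 χ hχ)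
  rw [hm] at h1
  simpa [hq] using h1

theorem mem_of_ne {A : Finset ι} {Al : List ι} (h : (↑Al : Multiset ι) = A.val) {χ : ι} :
    χ ∈ Al ↔ χ ∈ A := by
  rw [← Multiset.mem_coe, h, Finset.mem_val]

theorem sum_map_eq {A : Finset ι} {Al : List ι} (h : (↑Al : Multiset ι) = A.val) (f : ι → ℤ) :
    (Al.map f).sum = ∑ χ ∈ A, f χ := by
  rw [← Multiset.sum_coe, ← Multiset.map_coe, h]; rfl

end lists

variable {G : Type*} [Group G] [Finite G] [IsSimpleGroup G]
variable {p c j lo : ℕ} {x : G} {L : Subgroup G} {A E : Finset (IrrCharacter G)}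
  {σ : IrrCharacter G → ℤ} {ε : ℤ}

/-- What is needed of a spec at a block. -/
structure Fits (sp : Spec) (p j c lo : ℕ) (five : Bool) (avoid : List ℕ) : Prop where
  hp : sp.p = p
  ht : sp.t = (p - 1) / j
  hc : sp.zero = true ∨ sp.c = c
  cover : coverBool p j lo five avoid sp.sols = true
  tpos : 0 < sp.t
  four : Nat.Coprime 4 sp.p
  fst : sp.first = true → sp.orth = .free

/-- **The first block.** -/
theorem first_step (hc : Nat.card G = 443520) [Fact p.Prime] (hodd : p ≠ 2)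
    (hb : Blk p c j lo x L A E σ ε) {t : G} (ht : orderOf t = 2) {C : ℕ}
    (hC : Nat.card (cnt1 t) = C) {u : IrrCharacter G → ℤ}
    (hu : ∀ χ : IrrCharacter G, (χ : G → ℂ) t = u χ) {five : Bool} {avoid : List ℕ} {sp : Spec}
    (hf : Fits sp p j c lo five avoid) (hfst : sp.first = true)
    (hok : ∀ χ, χ ∈ A ∨ χ ∈ E → okB five avoid (dg χ) = true)
    (hK : sp.inK = true → Commute x t)
    (hz : sp.zero = true → ¬ ∃ a, IsConj t a ∧ a * x * a⁻¹ = x⁻¹)
    (hpos : sp.pos = true → ∃ a, IsConj t a ∧ a * x * a⁻¹ = x⁻¹) (hcl : sp.classify = false)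
    {P : Par} (hE : Env P dg u (fun χ => χ ≠ oneChar G))
    (hP : P = parFor C ∨ (P = parWide ∧ sp.zero = true))
    {next : List Entry → ℕ → Bool} (h : run sp P next [] 1 = true) :
    ∃ l : List (IrrCharacter G), l.Nodup ∧ (∀ χ ∈ l, χ ≠ oneChar G) ∧
      (∀ χ, χ ∈ A ∨ χ ∈ E → χ ∈ l) ∧
      next (entsOf dg u (weight A E σ ε) l) (qOf u l) = true := by
  obtain ⟨Al, hAl, B⟩ := exists_block hc hodd hb ht hC hu hf.hp hf.ht hf.hc hf.cover hok hK hz hpos
    (fun e => by simp [hcl] at e)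
  have B' : Block sp P dg u (fun χ => χ ≠ oneChar G) Al E.toList σ ε := by
    rcases hP with rfl | ⟨rfl, hz'⟩
    exacts [B, block_wide hz' B]
  have hcard : E.card = sp.t := by rw [hb.data.cardE, hf.ht]
  obtain ⟨l, h1, h2, -, h4, h5⟩ := run_sound (W := weight A E σ ε) hE hf.four B' hf.fst hf.tpos
    (by simp [OrthOk, hf.fst hfst]) (l := []) List.nodup_nil (by simp)
    (fun χ hχ _ => by rw [weight_A ((mem_of_ne hAl).mp hχ), wA, if_pos hfst, hcard])
    (fun χ hχ _ => by rw [weight_E hb.data.disj (Finset.mem_toList.mp hχ), wE, if_pos hfst])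
    (show run sp P next (entsOf dg u (weight A E σ ε) []) (qOf u []) = true from h)
  exact ⟨l, h1, h2, fun χ hχ => h4 χ (List.mem_append.mpr
    (hχ.imp (mem_of_ne hAl).mpr Finset.mem_toList.mpr)), h5⟩

/-- **A further block.** -/
theorem step (hc : Nat.card G = 443520) [Fact p.Prime] (hodd : p ≠ 2)
    (hb : Blk p c j lo x L A E σ ε) {t : G} (ht : orderOf t = 2) {C : ℕ}
    (hC : Nat.card (cnt1 t) = C) (hC' : C ∣ 40320) {u : IrrCharacter G → ℤ}
    (hu : ∀ χ : IrrCharacter G, (χ : G → ℂ) t = u χ) {five : Bool} {avoid : List ℕ} {sp : Spec}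
    (hf : Fits sp p j c lo five avoid) (hfst : sp.first = false)
    (hok : ∀ χ, χ ∈ A ∨ χ ∈ E → okB five avoid (dg χ) = true)
    (hK : sp.inK = true → Commute x t)
    (hz : sp.zero = true → ¬ ∃ a, IsConj t a ∧ a * x * a⁻¹ = x⁻¹)
    (hpos : sp.pos = false) (hcl : sp.classify = true → c = 1)
    {W : IrrCharacter G → ℤ} {l : List (IrrCharacter G)} (hn : l.Nodup)
    (hl : ∀ χ ∈ l, χ ≠ oneChar G) (hW : ∀ χ, χ ∉ l → W χ = 0)
    (hO : ∀ Al : List (IrrCharacter G), (↑Al : Multiset (IrrCharacter G)) = A.val →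
      OrthOk sp W Al E.toList σ ε)
    {next : List Entry → ℕ → Bool}
    (h : run sp (parFor C) next (entsOf dg u W l) (qOf u l) = true) :
    ∃ l' : List (IrrCharacter G), l'.Nodup ∧ (∀ χ ∈ l', χ ≠ oneChar G) ∧ (∀ χ, χ ∉ l' → W χ = 0) ∧
      next (entsOf dg u W l') (qOf u l') = true := by
  obtain ⟨Al, hAl, B⟩ := exists_block hc hodd hb ht hC hu hf.hp hf.ht hf.hc hf.cover hok hK hz
    (fun e => by simp [hpos] at e) hcl
  obtain ⟨l', h1, h2, h3, -, h5⟩ := run_sound (env hc ht hC hC' hu) hf.four B hf.fst hf.tpos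
    (hO Al hAl) hn hl (fun χ _ hχ => by rw [hW χ hχ, wA, if_neg (by simp [hfst])])
    (fun χ _ hχ => by rw [hW χ hχ, wE, if_neg (by simp [hfst])]) h
  exact ⟨l', h1, h2, fun χ hχ => hW χ fun hm => hχ (h3 χ hm), h5⟩

theorem weight_eq_zero {l : List (IrrCharacter G)} (hl : ∀ χ, χ ∈ A ∨ χ ∈ E → χ ∈ l) :
    ∀ χ, χ ∉ l → weight A E σ ε χ = 0 := fun χ hχ =>
  weight_other (fun h => hχ (hl χ (Or.inl h))) (fun h => hχ (hl χ (Or.inr h)))

variable {q c' j' lo' : ℕ} {y : G} {L' : Subgroup G} {A' E' : Finset (IrrCharacter G)}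
  {τ : IrrCharacter G → ℤ} {η : ℤ}

/-- The orthogonality condition with a single exceptional character. -/
theorem orthOk_total (h : Blk p c j lo x L A E σ ε) (h' : Blk q c' j' lo' y L' A' E' τ η)
    (hp : ¬ p ∣ Nat.card (cnt1 y)) (hq : ¬ q ∣ Nat.card (cnt1 x)) {sp : Spec} {T : ℤ}
    (ho : sp.orth = .total T) (hst : sp.t = (q - 1) / j')
    (hT : ((((p - 1) / j : ℕ) : ℤ) * ((sp.t : ℕ) : ℤ)) = T) (h1 : (p - 1) / j = 1 ∨ sp.t = 1)
    {Al : List (IrrCharacter G)} (hAl : (↑Al : Multiset (IrrCharacter G)) = A'.val) :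
    OrthOk sp (weight A E σ ε) Al E'.toList τ η := by
  have e1 : E.card = (p - 1) / j := h.data.cardE
  have e2 : E'.card = sp.t := by rw [h'.data.cardE, hst]
  have e := orth_total h h' hp hq (by rw [e1, e2]; exact h1)
  rw [e2] at e
  rw [OrthOk, ho]
  simp only
  rw [sum_map_eq hAl, Finset.sum_map_toList, ← hT, ← e1]
  linarith

/-- The orthogonality condition that two blocks share a character. -/
theorem orthOk_shared (h : Blk p c j lo x L A E σ ε) (h' : Blk q c' j' lo' y L' A' E' τ η)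
    (hq : ¬ q ∣ Nat.card (cnt1 x)) {sp : Spec} (ho : sp.orth = .shared)
    {Al : List (IrrCharacter G)} (hAl : (↑Al : Multiset (IrrCharacter G)) = A'.val) :
    OrthOk sp (weight A E σ ε) Al E'.toList τ η := by
  obtain ⟨χ, hχ, hne⟩ := orth_shared h h' hq
  rw [OrthOk, ho]
  exact ⟨χ, List.mem_append.mpr (hχ.imp (mem_of_ne hAl).mpr Finset.mem_toList.mpr), hne⟩

/-- No inverting element for an odd `|N : C|`. -/
theorem not_inverting [Fact p.Prime] (hodd : p ≠ 2) (h : Loc G p j c) (hx : orderOf x = p)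
    (hj : Odd j) {t : G} : ¬ ∃ a, IsConj t a ∧ a * x * a⁻¹ = x⁻¹ := fun ⟨_, _, ha⟩ =>
  false_of_inverted hodd hx (h x hx).1 (h x hx).2 hj ha

/-- **The last step.** -/
theorem false_last11 (hc : Nat.card G = 443520) {t : G} (ht : orderOf t = 2) {C : ℕ}
    (hC : Nat.card (cnt1 t) = C) (hC' : C ∣ 40320) {u : IrrCharacter G → ℤ}
    (hu : ∀ χ : IrrCharacter G, (χ : G → ℂ) t = u χ) {five : Bool} {sols : List (List ℤ)}
    (hcov : coverBool 11 5 2 five [] sols = true)
    (hres : ∀ χ : IrrCharacter G, okB five [] (dg χ) = true)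
    {W : IrrCharacter G → ℤ} {l : List (IrrCharacter G)} (hn : l.Nodup)
    (hl : ∀ χ ∈ l, χ ≠ oneChar G) (hW : ∀ χ, χ ∉ l → W χ = 0)
    (h : last11 sols C (entsOf dg u W l) (qOf u l) = true) : False := by
  have : Fact (Nat.Prime 11) := ⟨by norm_num⟩
  obtain ⟨w, hw⟩ := exists_prime_orderOf_dvd_card' (G := G) 11 (by rw [hc]; norm_num)
  obtain ⟨L, A, E, σ, ε, hb⟩ := exists_blk' (lo := 2) hc (by norm_num) (by norm_num) (eleven hc) hw
    (Or.inl le_rfl)
  obtain ⟨l', -, -, -, h5⟩ := step hc (by norm_num) hb ht hC hC' hu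
    (sp := spec11 sols) (five := five) (avoid := [])
    ⟨rfl, rfl, Or.inl rfl, hcov, Nat.two_pos, by norm_num [spec11], fun _ => rfl⟩ rfl
    (fun χ _ => hres χ) (fun e => by simp [spec11] at e)
    (fun _ => not_inverting (by norm_num) (eleven hc) hw (by decide)) rfl (fun _ => rfl)
    hn hl hW (fun _ _ => by simp [OrthOk, spec11]) h
  simp [none'] at h5

end Cfsg.Agent.OrderM22.Recog
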