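/-
The centralisers of the elements of order 5, and the involutions centralising them.

Main results (namespace `Cfsg.Agent.OrderM22.Recog`):
* `five` : the configurations left at 5
* `exists_invol` : an involution with centraliser order in `hList`
* `res_five` : the residues of all degrees when `|C(z)| = 5`
-/
import Cfsg.Agent.Lib.OrderM22.Recog.Steps

set_option autoImplicit false
set_option maxRecDepth 100000

namespace Cfsg.Agent.OrderM22.Recog

open Cfsg Cfsg.Agent.Blocks Cfsg.Agent.CyclicDefect Subgroup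
open Cfsg.Agent.SmallOrders.BlockDegrees (oneChar)
open Cfsg.Agent.Order10200960 (Blk cnt1 nrm exists_orderOf_of_dvd)
open Cfsg.Agent.OrderM22 (dg)

/-- the condition on `Ns` in `mem_hList` -/
def nsBool (p j c a : ℕ) (Ns : List ℕ) : Bool :=
  Nat.beq (p * c * j % 2 ^ a) 0 && !Nat.beq (j % 2 ^ a) 0 &&
    (List.range (p * c * j + 1)).all fun m =>
      !(Nat.beq (p * c * j % m) 0 && Nat.beq (m % (2 ^ a * p)) 0) || Ns.elem m

theorem ns2 : ∀ cn ∈ cases2, (List.range 8).any (fun a => nsBool 5 2 cn.1 a cn.2) = true := by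
  decide +kernel

theorem ns4 : ∀ cn ∈ cases4, (List.range 8).any (fun a => nsBool 5 4 cn.1 a cn.2.2) = true := by
  decide +kernel

theorem ns73 : nsBool 7 3 8 3 [56, 168] = true := by decide +kernel

theorem ns76 : nsBool 7 6 4 3 [56, 168] = true := by decide +kernel

theorem facts2 : ∀ cn ∈ cases2, 2 ∣ cn.1 ∧ 1 < cn.1 ∧ ¬ 7 ∣ 5 * cn.1 := by decide +kernel

theorem facts4 : ∀ cn ∈ cases4, 2 ∣ cn.1 ∧ 1 < cn.1 ∧ ¬ 7 ∣ 5 * cn.1 := by decide +kernel

/-- the degrees to avoid for `|N : C| = 4` at 5 -/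
def avoid4 (c : ℕ) : List ℕ := if c % 3 = 0 then [128, 9] else [128]

theorem cover4 (cover3 : coverBool 5 4 10 false [128, 9] sols54three = true)
    (cover2 : coverBool 5 4 10 false [128] sols54two = true) :
    ∀ cn ∈ cases4, coverBool 5 4 10 false (avoid4 cn.1) cn.2.1 = true := by
  simp only [cases4, List.forall_mem_cons, List.forall_mem_nil]
  exact ⟨cover3, cover3, cover2, cover3, fun _ h => nomatch h⟩

variable {G : Type*} [Group G] [Finite G] [IsSimpleGroup G]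

/-- An involution centralising `x` and central in a Sylow 2-subgroup of the normaliser. -/
theorem exists_invol (hc : Nat.card G = 443520) {p : ℕ} [Fact p.Prime] (hp : ¬ p ^ 2 ∣ 443520)
    (hodd : p ≠ 2) {j c a : ℕ} (h : Loc G p j c) {x : G} (hx : orderOf x = p) {Ns : List ℕ}
    (hns : nsBool p j c a Ns = true) :
    ∃ (i : G) (T : Subgroup G), orderOf i = 2 ∧ Commute x i ∧ T ≤ nrm x ∧ Nat.card T = 2 ^ a ∧
      (∀ s ∈ T, Commute s i) ∧ Nat.card (cnt1 i) ∈ hList p Ns := by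
  simp only [nsBool, Bool.and_eq_true, Bool.not_eq_true', Nat.beq_eq] at hns
  obtain ⟨⟨h1, h2⟩, h3⟩ := hns
  obtain ⟨hC, hN⟩ := h x hx
  obtain ⟨T, hT, hTc⟩ := exists_subgroup_pow (a := a) (H := nrm x)
    (by rw [hN]; exact Nat.dvd_of_mod_eq_zero h1)
  obtain ⟨i, hi, hxi, hTi⟩ := exists_sylow_involution hC hN hT hTc fun hd => by
    rw [Nat.mod_eq_zero_of_dvd hd] at h2
    simp at h2
  exact ⟨i, T, hi, hxi, hT, hTc, hTi, mem_hList hc (eleven hc) hp hodd hx hi hxi hT hTc hTi hN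
    (by simpa [Bool.not_and] using h3)⟩

/-- **The elements of order 5.** -/
theorem five (hc : Nat.card G = 443520) :
    (∃ cn ∈ cases2, Loc G 5 2 cn.1) ∨ (∃ cn ∈ cases4, Loc G 5 4 cn.1) ∨ Loc G 5 4 1 := by
  have : Fact (Nat.Prime 5) := ⟨by norm_num⟩
  obtain ⟨n, j, c, hmem, hn, h⟩ := exists_loc (not_comm hc) hc ⟨by norm_num, by norm_num⟩ blocks5
  obtain ⟨z, hz⟩ := exists_prime_orderOf_dvd_card' (G := G) 5 (by rw [hc]; norm_num)
  have k11 : 11 ∣ c → False := fun hd => by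
    have := h.dvd_swap (eleven hc) (by norm_num) (by norm_num) (by norm_num) hz hd
    norm_num at this
  have k7 : 7 ∣ c → False := fun hd => by
    rcases seven hc with h' | h' | h' <;>
    · have := h.dvd_swap h' (by norm_num) (by norm_num) (by norm_num) hz hd
      norm_num at this
  simp only [List.mem_cons, Prod.mk.injEq, List.not_mem_nil, or_false] at hmem
  rcases hmem with ⟨rfl, rfl⟩ | ⟨rfl, rfl⟩ | ⟨rfl, rfl⟩ | ⟨rfl, rfl⟩ | ⟨rfl, rfl⟩ | ⟨rfl, rfl⟩ |
    ⟨rfl, rfl⟩ | ⟨rfl, rfl⟩ | ⟨rfl, rfl⟩ | ⟨rfl, rfl⟩ | ⟨rfl, rfl⟩ | ⟨rfl, rfl⟩ | ⟨rfl, rfl⟩ |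
    ⟨rfl, rfl⟩ | ⟨rfl, rfl⟩ | ⟨rfl, rfl⟩ | ⟨rfl, rfl⟩ | ⟨rfl, rfl⟩ | ⟨rfl, rfl⟩ | ⟨rfl, rfl⟩ |
    ⟨rfl, rfl⟩ | ⟨rfl, rfl⟩ | ⟨rfl, rfl⟩ | ⟨rfl, rfl⟩ | ⟨rfl, rfl⟩ | ⟨rfl, rfl⟩ | ⟨rfl, rfl⟩ |
    ⟨rfl, rfl⟩ | ⟨rfl, rfl⟩ | ⟨rfl, rfl⟩
  · exact (k11 ⟨72, by omega⟩).elim
  · exact (k11 ⟨36, by omega⟩).elim
  · exact (k7 ⟨96, by omega⟩).elim
  · exact (k7 ⟨48, by omega⟩).elim
  · exact (k11 ⟨42, by omega⟩).elim
  · exact (k11 ⟨21, by omega⟩).elim
  · exact (k11 ⟨32, by omega⟩).elim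
  · exact (k11 ⟨16, by omega⟩).elim
  · exact (k7 ⟨36, by omega⟩).elim
  · exact (k7 ⟨18, by omega⟩).elim
  · obtain rfl : c = 192 := by omega
    exact Or.inl ⟨(192, [640, 1920]), by decide, h⟩
  · obtain rfl : c = 96 := by omega
    exact Or.inr (Or.inl ⟨(96, sols54three, [640, 1920]), by simp [cases4], h⟩)
  · exact (k11 ⟨12, by omega⟩).elim
  · exact (k11 ⟨6, by omega⟩).elim
  · exact (k7 ⟨16, by omega⟩).elim
  · exact (k7 ⟨8, by omega⟩).elim
  · exact (k7 ⟨11, by omega⟩).elim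
  · obtain rfl : c = 72 := by omega
    exact Or.inl ⟨(72, [80, 240, 720]), by decide, h⟩
  · obtain rfl : c = 36 := by omega
    exact Or.inr (Or.inl ⟨(36, sols54three, [80, 240, 720]), by simp [cases4], h⟩)
  · exact (k7 ⟨6, by omega⟩).elim
  · exact (k7 ⟨3, by omega⟩).elim
  · obtain rfl : c = 32 := by omega
    exact Or.inl ⟨(32, [320]), by decide, h⟩
  · obtain rfl : c = 16 := by omega
    exact Or.inr (Or.inl ⟨(16, sols54two, [320]), by simp [cases4], h⟩)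
  · exact (k11 ⟨2, by omega⟩).elim
  · exact (k11 ⟨1, by omega⟩).elim
  · obtain rfl : c = 12 := by omega
    exact Or.inl ⟨(12, [40, 120]), by decide, h⟩
  · obtain rfl : c = 6 := by omega
    exact Or.inr (Or.inl ⟨(6, sols54three, [40, 120]), by simp [cases4], h⟩)
  · exact (k7 ⟨1, by omega⟩).elim
  · obtain rfl : c = 2 := by omega
    exact Or.inl ⟨(2, [20]), by decide, h⟩
  · obtain rfl : c = 1 := by omega
    exact Or.inr (Or.inr h)

/-- The residues modulo 5 and 11 of all degrees when `|C(z)| = 5`. -/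
theorem res_five (hc : Nat.card G = 443520) (h : Loc G 5 4 1) (χ : IrrCharacter G) :
    okB true [] (dg χ) = true := by
  have : Fact (Nat.Prime 5) := ⟨by norm_num⟩
  obtain ⟨z, hz⟩ := exists_prime_orderOf_dvd_card' (G := G) 5 (by rw [hc]; norm_num)
  obtain ⟨L, A, E, σ, ε, hb⟩ := exists_blk' (lo := 2) hc (by norm_num) (by norm_num) h hz (Or.inl le_rfl)
  have h11 := res_all hc χ
  simp only [okB, List.all_nil, Bool.and_true, Bool.not_false, Bool.true_or] at h11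
  simp only [okB, List.all_nil, Bool.and_true, Bool.not_true, Bool.false_or, Bool.and_eq_true, h11,
    true_and, List.elem_iff, List.mem_cons, List.not_mem_nil, or_false]
  by_cases hA : χ ∈ A
  · have h2 := (hb.data.degA χ hA).2
    rcases hb.data.sign χ hA with s | s <;> rw [s] at h2 <;> simp only [dg] <;> omega
  by_cases hE : χ ∈ E
  · have h2 := (hb.data.degE χ hE).2
    rcases hb.data.signE with s | s <;> rw [s] at h2 <;> simp only [dg] <;> omega
  by_cases h1 : χ = oneChar G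
  · rw [h1, Order10200960.dg_oneChar]; simp
  · left
    exact Nat.mod_eq_zero_of_dvd (other_dvd hb h1 hA hE)

end Cfsg.Agent.OrderM22.Recog
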