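/-
A conjugate of a central involution inverting an element of order 7.

Main results (namespace `Cfsg.Agent.OrderM22.Recog`):
* `exists_inverting` : for `|C(y)| = 28`, `|N : C| = 6` and `|C(i)| = 2016`
-/
import Cfsg.Agent.Lib.OrderM22.Recog.Seven
import Cfsg.Agent.Lib.SmallOrders.Intersect

set_option autoImplicit false

namespace Cfsg.Agent.OrderM22.Recog

open Subgroup Cfsg.Agent.CyclicDefect
open Cfsg.Agent.Order10200960 (cnt1 nrm cnt1_le_nrm)

variable {G : Type*} [Group G] [Finite G]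

/-- The class of `i` in `H` times the centraliser in `H`. -/
theorem card_class_in {H : Subgroup G} {i : G} (hi : i ∈ H) :
    Nat.card {g : H // IsConj (⟨i, hi⟩ : H) g} * Nat.card ↥(cnt1 i ⊓ H) = Nat.card H := by
  rw [← SmallOrders.card_isConj_class (⟨i, hi⟩ : H)]
  congr 1
  exact Nat.card_congr
    { toFun := fun g => ⟨⟨g.1, g.2.2⟩, mem_centralizer_singleton_iff.mpr
        (Subtype.ext (mem_centralizer_singleton_iff.mp g.2.1))⟩
      invFun := fun g => ⟨g.1.1, mem_centralizer_singleton_iff.mpr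
        (congrArg Subtype.val (mem_centralizer_singleton_iff.mp g.2)), g.1.2⟩
      left_inv := fun _ => rfl
      right_inv := fun _ => rfl }

variable [IsSimpleGroup G]

/-- The regular elements of `C(y)`. -/
theorem exists_regular_part (hc : Nat.card G = 443520) {y : G} (hy : orderOf y = 7)
    (hC : Nat.card (cnt1 y) = 7 * 4) :
    ∃ V : Subgroup G, Nat.card V = 4 ∧ (∀ g, g ∈ V ↔ Commute y g ∧ ¬ 7 ∣ orderOf g) ∧
      nrm y ≤ normalizer (V : Set G) := by
  have : Fact (Nat.Prime 7) := ⟨by norm_num⟩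
  obtain ⟨L, hS⟩ := exists_setting (p := 7) (by norm_num) hy (hc.symm ▸ by norm_num)
  have hK : Nat.card (K y L) = 4 := by
    have := hS.card_centralizer.symm.trans hC
    omega
  set V := (K y L).map L.subtype with hV
  have hmem : ∀ g, g ∈ V ↔ Commute y g ∧ ¬ 7 ∣ orderOf g := fun g => by
    constructor
    · rintro ⟨k, hk, rfl⟩
      exact ⟨hS.commute_K ⟨k, hk⟩, hS.regular_K ⟨k, hk⟩⟩
    · rintro ⟨h1, h2⟩
      obtain ⟨k, hk⟩ := hS.exists_K_of_regular h1 h2
      exact ⟨(k : L), k.2, hk.symm⟩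
  refine ⟨V, ?_, hmem, fun g hg => mem_normalizer_fintype fun v hv => ?_⟩
  · rw [hV, ← Nat.card_congr ((K y L).equivMapOfInjective _ L.subtype_injective).toEquiv, hK]
  · obtain ⟨h1, h2⟩ := (hmem v).mp hv
    refine (hmem _).mpr ⟨?_, by rwa [SecondMain.orderOf_conj]⟩
    have hgy : g⁻¹ * y * g ∈ zpowers y := by
      have := (mem_normalizer_iff.mp (inv_mem hg) y).mp (mem_zpowers y)
      rwa [inv_inv] at this
    obtain ⟨n, hn⟩ := mem_zpowers_iff.mp hgy
    have h3 := (Commute.conj_iff g).mpr (hn ▸ h1.zpow_left n : Commute (g⁻¹ * y * g) v)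
    rwa [show g * (g⁻¹ * y * g) * g⁻¹ = y by group] at h3

/-- An element of square 1 normalising `⟨y⟩` centralises or inverts `y`. -/
theorem conj_eq_or {y a : G} (hy : orderOf y = 7) (ha : a ∈ nrm y) (haa : a * a = 1) :
    Commute y a ∨ a * y * a⁻¹ = y⁻¹ := by
  obtain ⟨n, hn⟩ := mem_zpowers_iff.mp ((mem_normalizer_iff.mp ha y).mp (mem_zpowers y))
  have h2 : y ^ (n * n) = y := by
    rw [zpow_mul, hn, conj_zpow, hn, ← mul_assoc, ← mul_assoc, haa, one_mul, mul_assoc, ← mul_inv_rev,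
      haa, inv_one, mul_one]
  have h7 : (7 : ℤ) ∣ (n - 1) * (n + 1) := by
    have h3 : y ^ (n * n - 1) = 1 := by rw [zpow_sub, h2, zpow_one, mul_inv_cancel]
    have := orderOf_dvd_iff_zpow_eq_one.mpr h3
    rw [hy] at this
    rwa [show (n - 1) * (n + 1) = n * n - 1 by ring]
  rcases (Int.prime_iff_natAbs_prime.mpr (by norm_num)).dvd_mul.mp h7 with h | h
  · left
    have h4 : y ^ n = y := by
      have : y ^ (n - 1) = 1 := orderOf_dvd_iff_zpow_eq_one.mp (hy.symm ▸ h)
      rwa [zpow_sub, zpow_one, mul_inv_eq_one] at this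
    rw [h4] at hn
    exact (mul_inv_eq_iff_eq_mul.mp hn.symm).symm
  · right
    have : y ^ (n + 1) = 1 := orderOf_dvd_iff_zpow_eq_one.mp (hy.symm ▸ h)
    rw [zpow_add, zpow_one, mul_eq_one_iff_eq_inv] at this
    rw [← hn, this]

/-- **The inverting conjugate.** -/
theorem exists_inverting (hc : Nat.card G = 443520) (h : Loc G 7 6 4) {y i : G} (hy : orderOf y = 7)
    (hi : orderOf i = 2) (hyi : Commute y i) {T : Subgroup G} (hT : T ≤ nrm y) (hTc : Nat.card T = 2 ^ 3)
    (hTi : ∀ s ∈ T, Commute s i) (hC : Nat.card (cnt1 i) = 2016) :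
    ∃ a, IsConj i a ∧ a * y * a⁻¹ = y⁻¹ := by
  classical
  have : Fact (Nat.Prime 7) := ⟨by norm_num⟩
  have : Fact (Nat.Prime 2) := ⟨Nat.prime_two⟩
  obtain ⟨hCy, hNy⟩ := h y hy
  obtain ⟨V, hV, hVmem, hVn⟩ := exists_regular_part hc hy hCy
  have hiV : i ∈ V := (hVmem i).mpr ⟨hyi, by rw [hi]; norm_num⟩
  have hiN : i ∈ nrm y := cnt1_le_nrm y (mem_centralizer_singleton_iff.mpr hyi.eq.symm)
  have hm : Nat.card ↥(cnt1 i ⊓ nrm y) = 56 := by
    obtain ⟨k, hk1, hk2, -⟩ := Order95040.card_inf_normalizer_mul hy (hc.symm ▸ by norm_num) (cnt1 i)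
      (mem_centralizer_singleton_iff.mpr hyi.eq)
    rw [hC] at hk1
    have hd1 : Nat.card ↥(cnt1 i ⊓ nrm y) ∣ 168 := (card_dvd_of_le inf_le_right).trans (dvd_of_eq hNy)
    have h8 : 8 ∣ Nat.card ↥(cnt1 i ⊓ nrm y) := by
      have := card_dvd_of_le (le_inf (fun s hs => mem_centralizer_singleton_iff.mpr (hTi s hs).eq) hT)
      rwa [hTc] at this
    have h7 : 7 ∣ Nat.card ↥(cnt1 i ⊓ nrm y) := hy ▸ orderOf_dvd_natCard _
      ⟨mem_centralizer_singleton_iff.mpr hyi.eq, le_normalizer (mem_zpowers y)⟩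
    have h56 := Nat.Coprime.mul_dvd_of_dvd_of_dvd (m := 8) (n := 7) (by norm_num) h8 h7
    have := Nat.le_of_dvd (by norm_num) hd1
    obtain ⟨r, hr⟩ := h56
    have hr' : r ≤ 3 := by omega
    rw [hr] at hk1 hd1 ⊢
    interval_cases r <;> omega
  -- the class of `i` in a subgroup normalising `V`
  have hle : ∀ (H : Subgroup G) (hiH : i ∈ H), H ≤ normalizer (V : Set G) →
      Nat.card {g : H // IsConj (⟨i, hiH⟩ : H) g} ≤ 3 := by
    intro H hiH hH
    have h3 : Nat.card {v : V // v ≠ 1} = 3 := by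
      have := Fintype.ofFinite V
      rw [Nat.card_eq_fintype_card, Fintype.card_subtype_compl, Fintype.card_subtype_eq,
        ← Nat.card_eq_fintype_card, hV]
    rw [← h3]
    have hmem : ∀ g : {g : H // IsConj (⟨i, hiH⟩ : H) g}, ((g.1 : H) : G) ∈ V ∧ ((g.1 : H) : G) ≠ 1 := by
      rintro ⟨g, hg⟩
      obtain ⟨w, hw⟩ := isConj_iff.mp hg
      have e : (g : G) = (w : G) * i * (w : G)⁻¹ := by rw [← hw]; simp
      refine ⟨e ▸ (mem_normalizer_iff.mp (hH w.2) i).mp hiV, fun h1 => ?_⟩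
      have h2 : i = 1 := by simpa [e] using h1
      rw [h2, orderOf_one] at hi; omega
    exact Nat.card_le_card_of_injective
      (fun g => (⟨⟨_, (hmem g).1⟩, fun h1 => (hmem g).2 (congrArg Subtype.val h1)⟩ : {v : V // v ≠ 1}))
      fun a b hab => Subtype.ext (Subtype.ext (congrArg (fun v : {v : V // v ≠ 1} => ((v.1 : V) : G)) hab))
  have hcls : Nat.card {g : nrm y // IsConj (⟨i, hiN⟩ : nrm y) g} = 3 := by
    have := card_class_in hiN
    rw [hm, hNy] at this
    omega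
  have hall : ∀ v ∈ V, v ≠ 1 → ∃ w ∈ nrm y, w * i * w⁻¹ = v := by
    intro v hv hv1
    set f : {g : nrm y // IsConj (⟨i, hiN⟩ : nrm y) g} → G := fun g => ((g.1 : nrm y) : G)
    have hf : Function.Injective f := fun a b hab => Subtype.ext (Subtype.ext hab)
    have hsub : Set.range f ⊆ ((V : Set G) \ {1}) := by
      rintro _ ⟨⟨g, hg⟩, rfl⟩
      obtain ⟨w, hw⟩ := isConj_iff.mp hg
      have e : (g : G) = (w : G) * i * (w : G)⁻¹ := by rw [← hw]; simp
      show (g : G) ∈ (V : Set G) \ {1}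
      refine ⟨e ▸ (mem_normalizer_iff.mp (hVn w.2) i).mp hiV, fun h1 => ?_⟩
      have h2 : i = 1 := by simpa [e] using h1
      rw [h2, orderOf_one] at hi; omega
    have heq : Set.range f = (V : Set G) \ {1} := by
      refine Set.eq_of_subset_of_ncard_le hsub ?_
      rw [Set.ncard_range_of_injective hf, hcls, Set.ncard_sdiff (by simp [V.one_mem]),
        Set.ncard_singleton, ← Nat.card_coe_set_eq, show Nat.card (V : Set G) = 4 from hV]
    obtain ⟨⟨g, hg⟩, hgv⟩ := heq.ge ⟨hv, hv1⟩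
    obtain ⟨w, hw⟩ := isConj_iff.mp hg
    exact ⟨w, w.2, (congrArg Subtype.val hw).trans hgv⟩
  have hVT : V ≤ T := by
    obtain ⟨-, hd⟩ := centralizer_part hCy hNy hT
    have h1 := ((cnt1 y).subgroupOf T).card_mul_index
    rw [hTc] at h1
    have hle2 : ((cnt1 y).subgroupOf T).index ≤ 2 :=
      Nat.le_of_dvd (by norm_num) ((Nat.dvd_gcd ⟨_, by rw [mul_comm, h1]⟩ hd : _ ∣ Nat.gcd (2 ^ 3) 6).trans
        (by norm_num))
    have hcard : 4 ≤ Nat.card ↥(cnt1 y ⊓ T) := by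
      have e : Nat.card ((cnt1 y).subgroupOf T) = Nat.card ↥(cnt1 y ⊓ T) := by
        rw [← inf_subgroupOf_right, Nat.card_congr (subgroupOfEquivOfLe inf_le_right).toEquiv]
      rw [e] at h1
      interval_cases ((cnt1 y).subgroupOf T).index <;> omega
    have hsub : cnt1 y ⊓ T ≤ V := fun g hg => (hVmem g).mpr
      ⟨(mem_centralizer_singleton_iff.mp hg.1).symm, fun h7 => by
        have h8 : orderOf g ∣ 2 ^ 3 := hTc ▸ orderOf_dvd_natCard _ hg.2
        exact absurd (h7.trans h8) (by norm_num)⟩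
    rw [← eq_of_le_of_card_ge hsub (by rw [hV]; exact hcard)]
    exact inf_le_right
  -- an element outside `T` normalising it
  obtain ⟨S, hTS⟩ := (IsPGroup.of_card (p := 2) (n := 3) hTc).exists_le_sylow
  have hnorm : T < normalizer (T : Set G) ⊓ (S : Subgroup G) := by
    refine SmallOrders.lt_normalizer_inf S.isPGroup' (lt_of_le_of_ne hTS fun e => ?_)
    have hSc : Nat.card (S : Subgroup G) = 2 ^ 7 :=
      SmallOrders.card_sylow_subgroup (e := 7) (m := 3465) (by rw [hc]; norm_num) (by norm_num) S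
    rw [← e, hTc] at hSc
    norm_num at hSc
  obtain ⟨s, ⟨hsT, hsS⟩, hs⟩ := SetLike.exists_of_lt hnorm
  by_cases hk : ∀ v ∈ V, s * v * s⁻¹ ∈ V
  · exfalso
    set H := normalizer (V : Set G)
    have hsH : s ∈ H := mem_normalizer_fintype hk
    have hiH : i ∈ H := hVn hiN
    have hcl : Nat.card {g : H // IsConj (⟨i, hiH⟩ : H) g} = 3 := by
      refine le_antisymm (hle H hiH le_rfl) ?_
      rw [← hcls]
      refine Nat.card_le_card_of_injective
        (fun g => (⟨⟨((g.1 : nrm y) : G), hVn g.1.2⟩, ?_⟩ : {g : H // IsConj (⟨i, hiH⟩ : H) g}))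
        fun a b hab => Subtype.ext (Subtype.ext
          (congrArg (fun v : {g : H // IsConj (⟨i, hiH⟩ : H) g} => ((v.1 : H) : G)) hab))
      obtain ⟨w, hw⟩ := isConj_iff.mp g.2
      exact isConj_iff.mpr ⟨⟨w, hVn w.2⟩, Subtype.ext (congrArg Subtype.val hw :)⟩
    have h1 := card_class_in hiH
    rw [hcl] at h1
    have hd : Nat.card ↥(cnt1 i ⊓ H) ∣ 2016 := hC ▸ card_dvd_of_le inf_le_left
    obtain ⟨n, hn1, hn2, -⟩ := Order95040.card_inf_normalizer_mul hy (hc.symm ▸ by norm_num) H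
      (hVn (le_normalizer (mem_zpowers y)))
    rw [inf_eq_right.mpr hVn, hNy] at hn1
    have hdH : Nat.card H ∣ Nat.gcd (3 * 2016) 443520 :=
      Nat.dvd_gcd (h1 ▸ Nat.mul_dvd_mul_left 3 hd) (hc ▸ card_subgroup_dvd_card H)
    rw [← hn1] at hdH
    norm_num at hdH
    have hn12 : n ∣ 12 := Nat.dvd_of_mul_dvd_mul_left (by norm_num : 0 < 168) hdH
    have hle12 := Nat.le_of_dvd (by norm_num) hn12
    have : n = 1 := by interval_cases n <;> omega
    subst this
    have hP : T ⊔ zpowers s ≤ H := sup_le (hT.trans hVn) (zpowers_le.mpr hsH)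
    obtain ⟨r, hr⟩ := IsPGroup.iff_card.mp (S.isPGroup'.to_le
      (sup_le hTS (zpowers_le.mpr hsS) : T ⊔ zpowers s ≤ S))
    have h2 := card_dvd_of_le hP
    rw [hr, ← hn1] at h2
    have h8 : 2 ^ r ∣ 8 := (Nat.Coprime.pow_left r (show Nat.Coprime 2 21 by norm_num)).dvd_of_dvd_mul_right
      (by simpa using h2)
    refine hs ((eq_of_le_of_card_ge (le_sup_left : T ≤ T ⊔ zpowers s) ?_).ge
      ((le_sup_right : zpowers s ≤ T ⊔ zpowers s) (mem_zpowers s)))
    rw [hTc, hr]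
    exact Nat.le_of_dvd (by norm_num) h8
  · simp only [not_forall, exists_prop] at hk
    obtain ⟨v, hv, hsv⟩ := hk
    have hv1 : v ≠ 1 := fun e => hsv (by simp [e])
    obtain ⟨w, -, hwv⟩ := hall v hv hv1
    set a := s * v * s⁻¹ with ha
    have hai : IsConj i a := isConj_iff.mpr ⟨s * w, by rw [ha, ← hwv]; group⟩
    have hao : orderOf a = 2 := by rw [ha, ← hwv, SecondMain.orderOf_conj, SecondMain.orderOf_conj, hi]
    have haT : a ∈ T := (mem_normalizer_iff.mp hsT v).mp (hVT hv)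
    have haa : a * a = 1 := by rw [← pow_two, ← hao, pow_orderOf_eq_one]
    exact ⟨a, hai, (conj_eq_or hy (hT haT) haa).resolve_left fun hcm =>
      hsv ((hVmem a).mpr ⟨hcm, by rw [hao]; norm_num⟩)⟩

end Cfsg.Agent.OrderM22.Recog
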