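/-
The configurations at 5 and 7 other than that of M22 are impossible.

Main results (namespace `Cfsg.Agent.OrderM22.Recog`):
* `caseA12`, `caseA3`, `caseB` : the other configurations are impossible
* `seven_one` : `|C(y)| = 7` and `|C(z)| = 5`
-/
import Cfsg.Agent.Lib.OrderM22.Recog.Five
import Cfsg.Agent.Lib.OrderM22.Recog.Inverting
import Cfsg.Agent.Lib.OrderM22.Recog.CheckA
import Cfsg.Agent.Lib.OrderM22.Recog.CheckA2
import Cfsg.Agent.Lib.OrderM22.Recog.CheckB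
import Cfsg.Agent.Lib.OrderM22.Recog.CheckB4
import Cfsg.Agent.Lib.OrderM22.Recog.CheckC

set_option autoImplicit false
set_option maxRecDepth 100000

namespace Cfsg.Agent.OrderM22.Recog

open Cfsg Cfsg.Agent.Blocks Cfsg.Agent.CyclicDefect Subgroup
open Cfsg.Agent.SmallOrders.BlockDegrees (oneChar exists_int_mod_four)
open Cfsg.Agent.Order10200960 (Blk cnt1 nrm exists_orderOf_of_dvd)
open Cfsg.Agent.OrderM22 (dg)

variable {G : Type*} [Group G] [Finite G] [IsSimpleGroup G]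

theorem exists_u (hc : Nat.card G = 443520) {t : G} (ht : orderOf t = 2) :
    ∃ u : IrrCharacter G → ℤ, ∀ χ : IrrCharacter G, (χ : G → ℂ) t = u χ := by
  have htt : t * t = 1 := by rw [← pow_two, ← ht, pow_orderOf_eq_one]
  choose u hu using fun χ : IrrCharacter G =>
    exists_int_mod_four (not_comm hc) (Char.IsIrrCharacter.isCharacter χ.2) htt
  exact ⟨u, fun χ => (hu χ).1⟩

theorem two_pow_seven {c : ℕ} (hd : 2 ∣ c) :
    ∀ v ∈ [128], ∃ q k, q.Prime ∧ v = q ^ k ∧ q ∣ c ∧ ¬ q ^ (k + 1) ∣ 443520 := fun v hv =>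
  ⟨2, 7, by norm_num, by simpa using hv, hd, by norm_num⟩

theorem avoid4_spec {c : ℕ} (hd : 2 ∣ c) :
    ∀ v ∈ avoid4 c, ∃ q k, q.Prime ∧ v = q ^ k ∧ q ∣ c ∧ ¬ q ^ (k + 1) ∣ 443520 := by
  intro v hv
  unfold avoid4 at hv
  split_ifs at hv with h3
  · rcases List.mem_cons.mp hv with rfl | hv
    · exact two_pow_seven hd _ (by simp)
    · exact ⟨3, 2, by norm_num, by simpa using hv, Nat.dvd_of_mod_eq_zero h3, by norm_num⟩
  · exact two_pow_seven hd v hv

/-- The first block for `|N : C| = 3` at 7. -/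
theorem start73 (hc : Nat.card G = 443520) {c : ℕ} (h : Loc G 7 3 c) {y : G} (hy : orderOf y = 7)
    {t : G} (ht : orderOf t = 2) (hC' : Nat.card (cnt1 t) ∣ 40320) {u : IrrCharacter G → ℤ}
    (hu : ∀ χ : IrrCharacter G, (χ : G → ℂ) t = u χ) :
    ∃ (L : Subgroup G) (A E : Finset (IrrCharacter G)) (σ : IrrCharacter G → ℤ) (ε : ℤ)
      (l : List (IrrCharacter G)), Blk 7 c 3 2 y L A E σ ε ∧ l.Nodup ∧
      (∀ χ ∈ l, χ ≠ oneChar G) ∧ (∀ χ, χ ∉ l → weight A E σ ε χ = 0) ∧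
      memSt st73 (entsOf dg u (weight A E σ ε) l) (qOf u l) = true := by
  have : Fact (Nat.Prime 7) := ⟨by norm_num⟩
  obtain ⟨L, A, E, σ, ε, hb⟩ := exists_blk' (lo := 2) hc (by norm_num) (by norm_num) h hy (Or.inl le_rfl)
  obtain ⟨l, h1, h2, h3, h4⟩ := first_step hc (by norm_num) hb ht rfl hu (sp := spec73)
    ⟨rfl, rfl, Or.inl rfl, cover73, Nat.two_pos, by norm_num [spec73], fun _ => rfl⟩ rfl
    (fun χ _ => res_all hc χ) (fun e => by simp [spec73] at e)
    (fun _ => not_inverting (by norm_num) h hy (by decide)) (fun e => by simp [spec73] at e) rfl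
    (env_wide (Nat.le_of_dvd (by norm_num) hC') (env hc ht rfl hC' hu)) (Or.inr ⟨rfl, rfl⟩)
    check73_true
  exact ⟨L, A, E, σ, ε, l, hb, h1, h2, weight_eq_zero h3, h4⟩

/-- `|N : C| = 3` at 7 forces `|C(z)| = 5`. -/
theorem caseA12 (hc : Nat.card G = 443520) {c : ℕ} (hc7 : c = 8 ∨ c = 1) (h7 : Loc G 7 3 c) :
    (∀ cn ∈ cases2, ¬ Loc G 5 2 cn.1) ∧ (∀ cn ∈ cases4, ¬ Loc G 5 4 cn.1) := by
  have : Fact (Nat.Prime 5) := ⟨by norm_num⟩
  have : Fact (Nat.Prime 7) := ⟨by norm_num⟩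
  obtain ⟨y, hy⟩ := exists_prime_orderOf_dvd_card' (G := G) 7 (by rw [hc]; norm_num)
  obtain ⟨z, hz⟩ := exists_prime_orderOf_dvd_card' (G := G) 5 (by rw [hc]; norm_num)
  have hy5 : ¬ 5 ∣ Nat.card (cnt1 y) := by
    rw [(h7 y hy).1]; rcases hc7 with rfl | rfl <;> norm_num
  refine ⟨fun cn hcn h5 => ?_, fun cn hcn h5 => ?_⟩
  · obtain ⟨h2, h1, -⟩ := facts2 cn hcn
    obtain ⟨a, -, ha⟩ := List.any_eq_true.mp (ns2 cn hcn)
    obtain ⟨i, T, hi, hzi, -, -, -, hmem⟩ := exists_invol hc (by norm_num) (by norm_num) h5 hz ha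
    have hC' := centralizer_dvd hc (eleven hc) hi
    obtain ⟨u, hu⟩ := exists_u hc hi
    obtain ⟨L, A, E, σ, ε, l, hb, hn, hl, hW, hm⟩ := start73 hc h7 hy hi hC' hu
    obtain ⟨L', A', E', τ, η, hb'⟩ := exists_blk' (lo := 10) hc (by norm_num) (by norm_num) h5 hz
      (Or.inr ⟨h1, le_rfl⟩)
    have hnx := next_of_fromSt (env hc hi rfl hC' hu) hn hl hm
      (List.all_eq_true.mp (List.all_eq_true.mp checkA1_true cn hcn) _ hmem)
    obtain ⟨l₂, hp₂, hrun⟩ := hnx
    obtain ⟨l', -, -, -, hf⟩ := step hc (by norm_num) hb' hi rfl hC' hu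
      (sp := spec5 2 cn.1 sols52 true .shared)
      ⟨rfl, rfl, Or.inr rfl, cover52, Nat.two_pos, by norm_num [spec5], fun e => by simp [spec5] at e⟩
      rfl (fun χ hχ => ok_member hc hb' (fun ψ _ => res_all hc ψ) (two_pow_seven h2) hχ)
      (fun _ => hzi) (fun e => by simp [spec5] at e) rfl (fun e => by simp [spec5] at e) (hp₂.nodup_iff.mpr hn)
      (fun χ hχ => hl χ (hp₂.mem_iff.mp hχ)) (fun χ hχ => hW χ fun h => hχ (hp₂.mem_iff.mpr h))
      (fun _ hAl => orthOk_shared hb hb' hy5 rfl hAl) hrun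
    simp [none'] at hf
  · obtain ⟨h2, h1, h7'⟩ := facts4 cn hcn
    obtain ⟨a, -, ha⟩ := List.any_eq_true.mp (ns4 cn hcn)
    obtain ⟨i, T, hi, hzi, -, -, -, hmem⟩ := exists_invol hc (by norm_num) (by norm_num) h5 hz ha
    have hC' := centralizer_dvd hc (eleven hc) hi
    obtain ⟨u, hu⟩ := exists_u hc hi
    obtain ⟨L, A, E, σ, ε, l, hb, hn, hl, hW, hm⟩ := start73 hc h7 hy hi hC' hu
    obtain ⟨L', A', E', τ, η, hb'⟩ := exists_blk' (lo := 10) hc (by norm_num) (by norm_num) h5 hz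
      (Or.inr ⟨h1, le_rfl⟩)
    have hnx := next_of_fromSt (env hc hi rfl hC' hu) hn hl hm
      (List.all_eq_true.mp (checkA2_true cn hcn) _ hmem)
    obtain ⟨l₂, hp₂, hrun⟩ := hnx
    obtain ⟨l', hn', hl', hW', hf⟩ := step hc (by norm_num) hb' hi rfl hC' hu
      (sp := spec5 1 cn.1 cn.2.1 true (.total 2))
      ⟨rfl, rfl, Or.inr rfl, cover4 cover54three cover54two cn hcn, Nat.one_pos, by norm_num [spec5],
        fun e => by simp [spec5] at e⟩
      rfl (fun χ hχ => ok_member hc hb' (fun ψ _ => res_all hc ψ) (avoid4_spec h2) hχ)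
      (fun _ => hzi) (fun e => by simp [spec5] at e) rfl (fun e => by simp [spec5] at e) (hp₂.nodup_iff.mpr hn)
      (fun χ hχ => hl χ (hp₂.mem_iff.mp hχ)) (fun χ hχ => hW χ fun h => hχ (hp₂.mem_iff.mpr h))
      (fun _ hAl => orthOk_total hb hb' (by rw [(h5 z hz).1]; exact h7') hy5 rfl rfl rfl (Or.inr rfl) hAl)
      hrun
    exact false_last11 hc hi rfl hC' hu cover115 (res_all hc) hn' hl' hW' hf

omit [IsSimpleGroup G] in
/-- With `|C(z)| = 5` no centraliser of an involution has order divisible by 5. -/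
theorem not_five_dvd (h5 : Loc G 5 4 1) {i : G} (hi : orderOf i = 2) :
    ¬ 5 ∣ Nat.card (cnt1 i) := fun hd => by
  have : Fact (Nat.Prime 5) := ⟨by norm_num⟩
  obtain ⟨w, hw, hwo⟩ := exists_orderOf_of_dvd hd
  have h2 : orderOf i ∣ Nat.card (cnt1 w) := orderOf_dvd_natCard _
    (mem_centralizer_singleton_iff.mpr (mem_centralizer_singleton_iff.mp hw).symm)
  rw [(h5 w hwo).1, hi] at h2
  norm_num at h2

/-- `|C(y)| = 56` is impossible. -/
theorem caseA3 (hc : Nat.card G = 443520) (h5 : Loc G 5 4 1) : ¬ Loc G 7 3 8 := fun h7 => by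
  have : Fact (Nat.Prime 5) := ⟨by norm_num⟩
  have : Fact (Nat.Prime 7) := ⟨by norm_num⟩
  obtain ⟨y, hy⟩ := exists_prime_orderOf_dvd_card' (G := G) 7 (by rw [hc]; norm_num)
  obtain ⟨z, hz⟩ := exists_prime_orderOf_dvd_card' (G := G) 5 (by rw [hc]; norm_num)
  obtain ⟨i, T, hi, hyi, -, -, -, hmem⟩ := exists_invol hc (by norm_num) (by norm_num) h7 hy ns73
  have hC' := centralizer_dvd hc (eleven hc) hi
  have h5' := not_five_dvd h5 hi
  obtain ⟨u, hu⟩ := exists_u hc hi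
  obtain ⟨L, A, E, σ, ε, hb⟩ := exists_blk' (lo := 14) hc (by norm_num) (by norm_num) h7 hy
    (Or.inr ⟨by norm_num, le_rfl⟩)
  obtain ⟨l, hn, hl, hAE, hm⟩ := first_step hc (by norm_num) hb hi rfl hu (sp := spec73five)
    ⟨rfl, rfl, Or.inl rfl, cover73five, Nat.two_pos, by norm_num [spec73five], fun _ => rfl⟩ rfl
    (fun χ hχ => ok_member hc hb (fun ψ _ => res_five hc h5 ψ) (two_pow_seven (by norm_num)) hχ)
    (fun _ => hyi) (fun _ => not_inverting (by norm_num) h7 hy (by decide))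
    (fun e => by simp [spec73five] at e) rfl
    (env_wide (Nat.le_of_dvd (by norm_num) hC') (env hc hi rfl hC' hu)) (Or.inr ⟨rfl, rfl⟩)
    check73five_true
  have hchk := List.all_eq_true.mp checkA3_true _ hmem
  rw [Bool.or_eq_true, Nat.beq_eq] at hchk
  have hnx := next_of_fromSt (env hc hi rfl hC' hu) hn hl hm
    (hchk.resolve_left fun e => h5' (Nat.dvd_of_mod_eq_zero e))
  obtain ⟨l₂, hp₂, hrun⟩ := hnx
  obtain ⟨L', A', E', τ, η, hb'⟩ := exists_blk' (lo := 2) hc (by norm_num) (by norm_num) h5 hz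
    (Or.inl le_rfl)
  obtain ⟨l', hn', hl', hW', hf⟩ := step hc (by norm_num) hb' hi rfl hC' hu
    (sp := spec5 1 1 sols54one false (.total 2))
    ⟨rfl, rfl, Or.inr rfl, cover54one, Nat.one_pos, by norm_num [spec5], fun e => by simp [spec5] at e⟩
    rfl (fun χ _ => res_five hc h5 χ) (fun e => by simp [spec5] at e) (fun e => by simp [spec5] at e)
    rfl (fun e => by simp [spec5] at e) (hp₂.nodup_iff.mpr hn)
      (fun χ hχ => hl χ (hp₂.mem_iff.mp hχ))
      (weight_eq_zero fun χ hχ => hp₂.mem_iff.mpr (hAE χ hχ))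
    (fun _ hAl => orthOk_total hb hb' (by rw [(h5 z hz).1]; norm_num) (by rw [(h7 y hy).1]; norm_num)
      rfl rfl rfl (Or.inr rfl) hAl)
    hrun
  exact false_last11 hc hi rfl hC' hu cover115five (res_five hc h5) hn' hl' hW' hf

/-- `|C(y)| = 28` is impossible. -/
theorem caseB (hc : Nat.card G = 443520) : ¬ Loc G 7 6 4 := fun h7 => by
  have : Fact (Nat.Prime 5) := ⟨by norm_num⟩
  have : Fact (Nat.Prime 7) := ⟨by norm_num⟩
  obtain ⟨y, hy⟩ := exists_prime_orderOf_dvd_card' (G := G) 7 (by rw [hc]; norm_num)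
  obtain ⟨i, T, hi, hyi, hT, hTc, hTi, hmem⟩ := exists_invol hc (by norm_num) (by norm_num) h7 hy ns76
  have hC' := centralizer_dvd hc (eleven hc) hi
  obtain ⟨u, hu⟩ := exists_u hc hi
  obtain ⟨L, A, E, σ, ε, hb⟩ := exists_blk' (lo := 14) hc (by norm_num) (by norm_num) h7 hy
    (Or.inr ⟨by norm_num, le_rfl⟩)
  have hok : ∀ χ, χ ∈ A ∨ χ ∈ E → okB false [128] (dg χ) = true := fun χ hχ =>
    ok_member hc hb (fun ψ _ => res_all hc ψ) (two_pow_seven (by norm_num)) hχ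
  -- no inverting conjugate is available when `|C(i)| = 2016` and it would be needed
  have hBpos : run (spec76 sols76 true) (parFor 2016) none' [] 1 = true := by
    have h := checkBpos_true
    unfold checkBpos start at h
    exact h
  have hpos : Nat.card (cnt1 i) = 2016 → False := fun e => by
    obtain ⟨l, -, -, -, hf⟩ := first_step hc (by norm_num) hb hi e hu (sp := spec76 sols76 true)
      ⟨rfl, rfl, Or.inr rfl, cover76, Nat.one_pos, by norm_num [spec76], fun _ => rfl⟩ rfl hok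
      (fun _ => hyi) (fun e' => by simp [spec76] at e')
      (fun _ => exists_inverting hc h7 hy hi hyi hT hTc hTi e) rfl
      (env hc hi e (e ▸ hC') hu) (Or.inl rfl) hBpos
    simp [none'] at hf
  obtain ⟨l, hn, hl, hAE, hm⟩ := first_step hc (by norm_num) hb hi rfl hu (sp := spec76 sols76 false)
    ⟨rfl, rfl, Or.inr rfl, cover76, Nat.one_pos, by norm_num [spec76], fun _ => rfl⟩ rfl hok
    (fun _ => hyi) (fun e => by simp [spec76] at e) (fun e => by simp [spec76] at e) rfl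
    (env hc hi rfl hC' hu) (Or.inl rfl) (List.all_eq_true.mp check76_true _ hmem)
  have henv := env hc hi rfl hC' hu
  obtain ⟨z, hz, hzi⟩ : ∃ z : G, orderOf z = 5 ∧
      (Nat.beq (Nat.card (cnt1 i) % 5) 0 = true → Commute z i) := by
    by_cases hd : 5 ∣ Nat.card (cnt1 i)
    · obtain ⟨w, hw, hwo⟩ := exists_orderOf_of_dvd hd
      exact ⟨w, hwo, fun _ => mem_centralizer_singleton_iff.mp hw⟩
    · obtain ⟨w, hw⟩ := exists_prime_orderOf_dvd_card' (G := G) 5 (by rw [hc]; norm_num)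
      exact ⟨w, hw, fun e => absurd (Nat.dvd_of_mod_eq_zero (Nat.eq_of_beq_eq_true e)) hd⟩
  have hy5 : ¬ 5 ∣ Nat.card (cnt1 y) := by rw [(h7 y hy).1]; norm_num
  rcases five hc with ⟨cn, hcn, h5⟩ | ⟨cn, hcn, h5⟩ | h5
  · obtain ⟨h2, h1, h7'⟩ := facts2 cn hcn
    obtain ⟨L', A', E', τ, η, hb'⟩ := exists_blk' (lo := 10) hc (by norm_num) (by norm_num) h5 hz
      (Or.inr ⟨h1, le_rfl⟩)
    obtain ⟨l₂, hp₂, hrun⟩ := next_of_fromSt henv hn hl hm (List.all_eq_true.mp checkB2_true _ hmem)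
    obtain ⟨l', -, -, -, hf⟩ := step hc (by norm_num) hb' hi rfl hC' hu
      (sp := spec5 2 cn.1 sols52 (Nat.beq (Nat.card (cnt1 i) % 5) 0) (.total 2))
      ⟨rfl, rfl, Or.inr rfl, cover52, Nat.two_pos, by norm_num [spec5], fun e => by simp [spec5] at e⟩
      rfl (fun χ hχ => ok_member hc hb' (fun ψ _ => res_all hc ψ) (two_pow_seven h2) hχ)
      hzi (fun e => by simp [spec5] at e) rfl (fun e => by simp [spec5] at e) (hp₂.nodup_iff.mpr hn)
      (fun χ hχ => hl χ (hp₂.mem_iff.mp hχ))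
      (weight_eq_zero fun χ hχ => hp₂.mem_iff.mpr (hAE χ hχ))
      (fun _ hAl => orthOk_total hb hb' (by rw [(h5 z hz).1]; exact h7') hy5 rfl rfl rfl (Or.inl rfl) hAl)
      (List.all_eq_true.mp hrun cn hcn)
    simp [none'] at hf
  · obtain ⟨h2, h1, h7'⟩ := facts4 cn hcn
    obtain ⟨L', A', E', τ, η, hb'⟩ := exists_blk' (lo := 10) hc (by norm_num) (by norm_num) h5 hz
      (Or.inr ⟨h1, le_rfl⟩)
    obtain ⟨l₂, hp₂, hall⟩ := next_of_fromSt henv hn hl hm (List.all_eq_true.mp checkB4_true _ hmem)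
    have hrun := List.all_eq_true.mp hall cn hcn
    rw [Bool.or_eq_true, Bool.and_eq_true, Nat.beq_eq] at hrun
    obtain ⟨l', hn', hl', hW', hf⟩ := step hc (by norm_num) hb' hi rfl hC' hu
      (sp := spec5 1 cn.1 cn.2.1 (Nat.beq (Nat.card (cnt1 i) % 5) 0) (.total 1))
      ⟨rfl, rfl, Or.inr rfl, cover4 cover54three cover54two cn hcn, Nat.one_pos, by norm_num [spec5],
        fun e => by simp [spec5] at e⟩
      rfl (fun χ hχ => ok_member hc hb' (fun ψ _ => res_all hc ψ) (avoid4_spec h2) hχ)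
      hzi (fun e => by simp [spec5] at e) rfl (fun e => by simp [spec5] at e) (hp₂.nodup_iff.mpr hn)
      (fun χ hχ => hl χ (hp₂.mem_iff.mp hχ))
      (weight_eq_zero fun χ hχ => hp₂.mem_iff.mpr (hAE χ hχ))
      (fun _ hAl => orthOk_total hb hb' (by rw [(h5 z hz).1]; exact h7') hy5 rfl rfl rfl (Or.inl rfl) hAl)
      (hrun.resolve_left fun e => hpos e.1)
    exact false_last11 hc hi rfl hC' hu cover115 (res_all hc) hn' hl' hW' hf
  · obtain ⟨L', A', E', τ, η, hb'⟩ := exists_blk' (lo := 2) hc (by norm_num) (by norm_num) h5 hz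
      (Or.inl le_rfl)
    have hchk := List.all_eq_true.mp checkB1_true _ hmem
    simp only [Bool.or_eq_true, Nat.beq_eq] at hchk
    obtain ⟨l₂, hp₂, hrun⟩ := next_of_fromSt henv hn hl hm (hchk.resolve_left fun e => e.elim
      (fun e5 => not_five_dvd h5 hi (Nat.dvd_of_mod_eq_zero e5)) hpos)
    obtain ⟨l', hn', hl', hW', hf⟩ := step hc (by norm_num) hb' hi rfl hC' hu
      (sp := spec5 1 1 sols54one false (.total 1))
      ⟨rfl, rfl, Or.inr rfl, cover54one, Nat.one_pos, by norm_num [spec5], fun e => by simp [spec5] at e⟩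
      rfl (fun χ _ => res_five hc h5 χ) (fun e => by simp [spec5] at e) (fun e => by simp [spec5] at e)
      rfl (fun e => by simp [spec5] at e) (hp₂.nodup_iff.mpr hn)
      (fun χ hχ => hl χ (hp₂.mem_iff.mp hχ))
      (weight_eq_zero fun χ hχ => hp₂.mem_iff.mpr (hAE χ hχ))
      (fun _ hAl => orthOk_total hb hb' (by rw [(h5 z hz).1]; norm_num) hy5 rfl rfl rfl (Or.inl rfl) hAl)
      hrun
    exact false_last11 hc hi rfl hC' hu cover115five (res_five hc h5) hn' hl' hW' hf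

/-- **`|C(y)| = 7` and `|C(z)| = 5`.** -/
theorem seven_one (hc : Nat.card G = 443520) : Loc G 7 3 1 ∧ Loc G 5 4 1 := by
  have key : ∀ {c : ℕ}, c = 8 ∨ c = 1 → Loc G 7 3 c → Loc G 5 4 1 := fun hc7 h7 => by
    rcases five hc with ⟨cn, hcn, h5⟩ | ⟨cn, hcn, h5⟩ | h5
    · exact absurd h5 ((caseA12 hc hc7 h7).1 cn hcn)
    · exact absurd h5 ((caseA12 hc hc7 h7).2 cn hcn)
    · exact h5
  rcases seven hc with h | h | h
  · exact absurd h (caseA3 hc (key (Or.inl rfl) h))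
  · exact absurd h (caseB hc)
  · exact ⟨h, key (Or.inr rfl) h⟩

end Cfsg.Agent.OrderM22.Recog
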