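/-
The searches of `Recog.Checks` evaluated by the kernel: `|N : C| = 6` at 7.

Main results (namespace `Cfsg.Agent.OrderM22.Recog`):
* `check76_true`, `checkB2_true`
-/
import Cfsg.Agent.Lib.OrderM22.Recog.Checks

set_option autoImplicit false
set_option maxRecDepth 100000
set_option Elab.async false

namespace Cfsg.Agent.OrderM22.Recog

theorem check76_true : check76 = true := by decide +kernel

theorem checkB2_true : checkB2 = true := by decide +kernel

end Cfsg.Agent.OrderM22.Recog
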