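/-
A simple group of order 443520 has the Sylow numbers of M22.

Main results (namespace `Cfsg.Agent.OrderM22.Recog`):
* `hyp_of_card` : the hypothesis `OrderM22.Hyp`
-/
import Cfsg.Agent.Lib.OrderM22.Recog.Cases
import Cfsg.Agent.Lib.OrderM22.Basic

set_option autoImplicit false

namespace Cfsg.Agent.OrderM22.Recog

open Subgroup
open Cfsg.Agent.Order10200960 (cnt1 nrm)

variable {G : Type*} [Group G] [Finite G] [IsSimpleGroup G]

omit [IsSimpleGroup G] in
theorem card_sylow_of_loc (hc : Nat.card G = 443520) {p j c n : ℕ} [Fact p.Prime] (h : Loc G p j c)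
    (hfac : p ∣ 443520 ∧ ¬ p ∣ 443520 / p) (hn : p * c * j * n = 443520) :
    Nat.card (Sylow p G) = n := by
  obtain ⟨x, hx⟩ := exists_prime_orderOf_dvd_card' (G := G) p (hc.symm ▸ hfac.1)
  have hq : ∀ Q : Sylow p G, Nat.card (Q : Subgroup G) = p := fun Q => by
    rw [SmallOrders.card_sylow_subgroup (e := 1) (m := 443520 / p)
      (by rw [hc, pow_one, Nat.mul_div_cancel' hfac.1]) hfac.2 Q, pow_one]
  obtain ⟨P, hP⟩ := SmallOrders.exists_sylow_eq_zpowers hq hx
  have hN := SmallOrders.card_normalizer_mul_card_sylow P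
  rw [hP, hc, (h x hx).2] at hN
  exact Nat.eq_of_mul_eq_mul_left (Nat.pos_of_ne_zero fun e => by rw [e, zero_mul] at hn; norm_num at hn)
    (hN.trans hn.symm)

/-- **The hypothesis on M22.** -/
theorem hyp_of_card (hc : Nat.card G = 443520) : OrderM22.Hyp G := by
  obtain ⟨h7, h5⟩ := seven_one hc
  refine ⟨hc, ?_, ?_, ?_, fun z hz => by simpa using (h5 z hz).1⟩
  · intro _; exact card_sylow_of_loc hc h5 ⟨by norm_num, by norm_num⟩ (by norm_num)
  · intro _; exact card_sylow_of_loc hc h7 ⟨by norm_num, by norm_num⟩ (by norm_num)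
  · intro _; exact card_sylow_of_loc hc (eleven hc) ⟨by norm_num, by norm_num⟩ (by norm_num)

end Cfsg.Agent.OrderM22.Recog
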